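import Groth.Agent.L22.ExtSh.DualCM
import Mathlib.Algebra.Homology.DerivedCategory.Ext.Map

/-!
The Yoneda pairing `Ext^c(G, ω) × H^j(G) → k` attached to a functional on `H^n(ω)`, and a criterion for
its perfection.
-/

set_option autoImplicit false
set_option backward.isDefEq.respectTransparency false
set_option linter.style.haveILetI false
universe u

open CategoryTheory CategoryTheory.Limits CategoryTheory.Abelian AlgebraicGeometry TopologicalSpace Opposite

noncomputable section

namespace Groth.L22.NatDual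

open Groth.L16
open Groth.L16.CohLinear (overLin tm tF ZS)

variable {k : Type u} [Field k] {X : Scheme.{u}} [X.Over (Spec (CommRingCat.of k))] [HasExt.{u} X.Modules]
  {n : ℕ} {ω : X.Modules} (τ : Coh.HH X ω n →ₗ[k] k)

omit [HasExt.{u} X.Modules] in
theorem smulMod_eq_smul_id (M : X.Modules) (r : k) : Formal.smulMod k M r = r • 𝟙 M := by
  rw [KLin.smul_def, Category.comp_id]

theorem smulMod_comp {G : X.Modules} {c : ℕ} (a : Ext G ω c) (r : k) :
    (Ext.mk₀ (Formal.smulMod k G r)).comp a (zero_add c) =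
      a.comp (Ext.mk₀ (Formal.smulMod k ω r)) (add_zero c) := by
  rw [smulMod_eq_smul_id, smulMod_eq_smul_id, Ext.mk₀_smul, Ext.mk₀_smul, Ext.smul_comp, Ext.comp_smul,
    Ext.mk₀_id_comp, Ext.comp_mk₀_id]

/-- Yoneda product with the functional. -/
def pairMap {G : X.Modules} {c j : ℕ} (h : j + c = n) (a : Ext G ω c) :
    Coh.HH X G j →ₗ[k] k where
  toFun x := τ (Ext.comp (show Ext (ZS X) (Coh.toAb G) j from x) (a.mapExactFunctor (tF X)) h)
  map_add' x y := by
    rw [← map_add]
    exact congrArg τ (Ext.add_comp _ _ _ h)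
  map_smul' r x := by
    have key := congrArg (fun b => Ext.mapExactFunctor (tF X) b) (smulMod_comp a r)
    simp only [Ext.mapExactFunctor_comp, Ext.mapExactFunctor_mk₀] at key
    show τ (Ext.comp (Ext.comp (show Ext (ZS X) (Coh.toAb G) j from x)
      (Ext.mk₀ (tm (Formal.smulMod k G r))) (add_zero j)) (a.mapExactFunctor (tF X)) h) = _
    rw [Ext.comp_assoc_of_second_deg_zero, key, ← Ext.comp_assoc_of_third_deg_zero _ _ _ h]
    exact τ.map_smul r _

/-- The pairing. -/
def pair (G : X.Modules) {c j : ℕ} (h : j + c = n) :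
    Ext G ω c →+ Module.Dual k (Coh.HH X G j) :=
  AddMonoidHom.mk' (pairMap τ h) fun a b => LinearMap.ext fun x => by
    show τ (Ext.comp (show Ext (ZS X) (Coh.toAb G) j from x) ((a + b).mapExactFunctor (tF X)) h) = _
    rw [Ext.mapExactFunctor_add, Ext.comp_add, map_add]
    rfl

theorem pair_mk₀_comp {G G' : X.Modules} {c j : ℕ} (h : j + c = n) (f : G ⟶ G')
    (a : Ext G' ω c) (x : Coh.HH X G j) :
    pair τ G h ((Ext.mk₀ f).comp a (zero_add c)) x = pair τ G' h a (CohLinear.hmap f j x) := by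
  show τ (Ext.comp (show Ext (ZS X) (Coh.toAb G) j from x) (((Ext.mk₀ f).comp a (zero_add c)).mapExactFunctor
    (tF X)) h) = _
  rw [Ext.mapExactFunctor_comp, Ext.mapExactFunctor_mk₀, ← Ext.comp_assoc_of_second_deg_zero]
  rfl

theorem pair_mk₀ {G : X.Modules} (φ : G ⟶ ω) (x : Coh.HH X G n) :
    pair τ G (add_zero n) (Ext.mk₀ φ) x = τ (CohLinear.hmap φ n x) := by
  show τ (Ext.comp (show Ext (ZS X) (Coh.toAb G) n from x) ((Ext.mk₀ φ).mapExactFunctor (tF X))
    (add_zero n)) = _
  rw [Ext.mapExactFunctor_mk₀]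
  rfl

/-- The pairing is linear over the field. -/
def pairL (G : X.Modules) {c j : ℕ} (h : j + c = n) : Ext G ω c →ₗ[k] Module.Dual k (Coh.HH X G j) where
  toFun := pair τ G h
  map_add' := map_add _
  map_smul' r a := LinearMap.ext fun x => by
    have h1 : r • a = (Ext.mk₀ (Formal.smulMod k G r)).comp a (zero_add c) := by
      rw [smulMod_eq_smul_id, Ext.mk₀_smul, Ext.smul_comp, Ext.mk₀_id_comp]
    rw [h1, pair_mk₀_comp]
    exact (pair τ G h a).map_smul r x

variable {S : ShortComplex X.Modules}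

theorem pair_extClass (hS : S.ShortExact) {c j : ℕ} (h : j + 1 + c = n) (h' : j + (1 + c) = n)
    (b : Ext S.X₁ ω c) (x : Coh.HH X S.X₃ j) :
    pair τ S.X₃ h' (hS.extClass.comp b rfl) x = pair τ S.X₁ h b (CohLinear.delta hS j x) := by
  show τ (Ext.comp (show Ext (ZS X) (Coh.toAb S.X₃) j from x) ((hS.extClass.comp b rfl).mapExactFunctor
    (tF X)) h') = _
  rw [Ext.mapExactFunctor_comp, Ext.mapExactFunctor_extClass,
    ← Ext.comp_assoc (a₁₂ := j + 1) _ _ _ rfl rfl (by omega)]
  rfl

theorem pair_zero_comp {G G' : X.Modules} (f : G ⟶ G') (χ : G' ⟶ ω) :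
    pair τ G (add_zero n) (Ext.mk₀ (f ≫ χ)) =
      (pair τ G' (add_zero n) (Ext.mk₀ χ)).comp (overLin k (CohLinear.hmap f n)) := LinearMap.ext fun x => by
  rw [← Ext.mk₀_comp_mk₀, pair_mk₀_comp]
  rfl

theorem bijective_pair_one (hS : S.ShortExact)
    (h1 : Function.Bijective (pair τ S.X₁ (add_zero n)))
    (h2 : Function.Bijective (pair τ S.X₂ (add_zero n)))
    (hE : Subsingleton (Ext S.X₂ ω 1))
    {j : ℕ} (hH : Subsingleton (Coh.HH X S.X₂ j)) (hj : j + 1 = n) :
    Function.Bijective (pair τ S.X₃ (show j + (1 + 0) = n by omega)) := by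
  subst hj
  let dl := overLin k (CohLinear.delta hS j)
  let g := overLin k (CohLinear.hmap S.f (j + 1))
  have hd : Function.Injective dl := by
    rw [injective_iff_map_eq_zero]
    intro x hx
    obtain ⟨y, rfl⟩ := (CohLinear.exact_hmap_delta hS j x).1 hx
    rw [@Subsingleton.elim _ hH y 0]
    exact map_zero _
  have hex : Function.Exact dl g := CohLinear.exact_delta_hmap hS j
  constructor
  · rw [injective_iff_map_eq_zero]
    intro a ha
    obtain ⟨b, rfl⟩ := Ext.contravariant_sequence_exact₃ hS _ a (Subsingleton.elim _ _) (show 1 + 0 = 1 + 0 from rfl)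
    have hz : ∀ y, g y = 0 → pair τ S.X₁ (add_zero (j + 1)) b y = 0 := by
      intro y hy
      obtain ⟨x, rfl⟩ := (hex y).1 hy
      have h0 := LinearMap.congr_fun ha x
      rw [pair_extClass τ hS (j := j) (add_zero _)] at h0
      exact h0
    have hann : pair τ S.X₁ (add_zero (j + 1)) b ∈ LinearMap.range g.dualMap := by
      rw [LinearMap.range_dualMap_eq_dualAnnihilator_ker]
      exact (Submodule.mem_dualAnnihilator _).2 fun y hy => hz y hy
    obtain ⟨ψ, hψ⟩ := hann
    obtain ⟨χ', hχ⟩ := h2.2 ψ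
    obtain ⟨χ, rfl⟩ := (Ext.mk₀_bijective _ _).2 χ'
    have hb : b = Ext.mk₀ (S.f ≫ χ) := h1.1 (by rw [pair_zero_comp, hχ]; exact hψ.symm)
    rw [hb, ← Ext.mk₀_comp_mk₀, ← Ext.comp_assoc_of_second_deg_zero, hS.extClass_comp, Ext.zero_comp]
  · intro ψ
    obtain ⟨ψ', hψ'⟩ := LinearMap.dualMap_surjective_of_injective hd ψ
    obtain ⟨b, hb⟩ := h1.2 ψ'
    refine ⟨hS.extClass.comp b rfl, LinearMap.ext fun x => ?_⟩
    rw [pair_extClass τ hS (j := j) (add_zero _), hb, ← hψ']
    rfl

theorem bijective_pair_succ (hS : S.ShortExact) {c j : ℕ} (hc : 1 ≤ c)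
    (hE : ∀ i, Subsingleton (Ext S.X₂ ω (i + 1)))
    (hH : Subsingleton (Coh.HH X S.X₂ j)) (hH' : Subsingleton (Coh.HH X S.X₂ (j + 1))) (h : j + 1 + c = n)
    (h1 : Function.Bijective (pair τ S.X₁ h)) :
    Function.Bijective (pair τ S.X₃ (show j + (1 + c) = n by omega)) := by
  let dl := overLin k (CohLinear.delta hS j)
  have hd : Function.Bijective dl := by
    refine ⟨?_, fun y => ?_⟩
    · rw [injective_iff_map_eq_zero]
      intro x hx
      obtain ⟨y, rfl⟩ := (CohLinear.exact_hmap_delta hS j x).1 hx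
      rw [@Subsingleton.elim _ hH y 0]
      exact map_zero _
    · exact (CohLinear.exact_delta_hmap hS j y).1 (@Subsingleton.elim _ hH' _ _)
  haveI := hE c
  have hsurj : ∀ a : Ext S.X₃ ω (1 + c), ∃ b, hS.extClass.comp b rfl = a := fun a => by
    haveI : Subsingleton (Ext S.X₂ ω (1 + c)) := by
      have := hE c
      rwa [Nat.add_comm c 1] at this
    obtain ⟨b, hb⟩ := Ext.contravariant_sequence_exact₃ hS _ a (Subsingleton.elim _ _) rfl
    exact ⟨b, hb⟩
  constructor
  · rw [injective_iff_map_eq_zero]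
    intro a ha
    obtain ⟨b, rfl⟩ := hsurj a
    have hb : pair τ S.X₁ h b = 0 := LinearMap.ext fun y => by
      obtain ⟨x, rfl⟩ := hd.2 y
      have h0 := LinearMap.congr_fun ha x
      rw [pair_extClass τ hS h] at h0
      exact h0
    rw [(injective_iff_map_eq_zero _).1 h1.1 b hb, Ext.comp_zero]
  · intro ψ
    obtain ⟨b, hb⟩ := h1.2 (ψ.comp (LinearEquiv.ofBijective dl hd).symm.toLinearMap)
    refine ⟨hS.extClass.comp b rfl, LinearMap.ext fun x => ?_⟩
    rw [pair_extClass τ hS h, hb]
    exact congrArg ψ ((LinearEquiv.ofBijective dl hd).symm_apply_apply x)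

theorem bijective_of_eq {G : X.Modules} {c c' j : ℕ} (e : c = c') (h : j + c = n) (h' : j + c' = n)
    (hb : Function.Bijective (pair τ G h)) : Function.Bijective (pair τ G h') := by
  subst e
  exact hb

/-- Perfection of the pairing up to degree `s`. -/
theorem bijective_pair (hD : ∀ G : X.Modules, Coh.IsCoh G → Function.Bijective (pair τ G (add_zero n))) (s : ℕ)
    (hcov : ∀ G : X.Modules, Coh.IsCoh G → ∃ (K E : X.Modules) (i : K ⟶ E) (p : E ⟶ G) (w : i ≫ p = 0),
      (ShortComplex.mk i p w).ShortExact ∧ Coh.IsCoh K ∧ Coh.IsCoh E ∧ (∀ l, Subsingleton (Ext E ω (l + 1))) ∧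
        ∀ j, j < n → n ≤ j + s → Subsingleton (Coh.HH X E j)) :
    ∀ (c : ℕ), c ≤ s → ∀ {j : ℕ} (h : j + c = n) (G : X.Modules), Coh.IsCoh G →
      Function.Bijective (pair τ G h) := by
  intro c
  induction c with
  | zero =>
    intro _ j h G hG
    obtain rfl : j = n := by omega
    exact hD G hG
  | succ c ih =>
    intro hc j h G hG
    obtain ⟨K, E, i, p, w, hS, hK, hEc, hE, hH⟩ := hcov G hG
    have key : Function.Bijective (pair τ G (show j + (1 + c) = n by omega)) := by
      rcases Nat.eq_zero_or_pos c with rfl | hc'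
      · exact bijective_pair_one τ hS (hD _ hK) (hD _ hEc) (hE 0) (hH j (by omega) (by omega)) (by omega)
      · exact bijective_pair_succ τ hS hc' hE (hH j (by omega) (by omega)) (hH (j + 1) (by omega) (by omega))
          (by omega) (ih (by omega) (by omega) K hK)
    exact bijective_of_eq τ (Nat.add_comm 1 c) _ _ key

end Groth.L22.NatDual
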