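import Groth.Agent.L22.ExtSh.TwistDual
import Groth.Agent.L22.PDual.ExtDual
import Groth.Agent.L22.Inter.Fga
import Groth.Agent.L10.AcycObj
import Groth.Agent.L16.ProperFinite

/-!
Serre duality for Cohen–Macaulay equidimensional projective schemes, given a dualizing sheaf.
-/

set_option autoImplicit false
set_option backward.isDefEq.respectTransparency false
set_option linter.style.haveILetI false
universe u

open CategoryTheory CategoryTheory.Limits CategoryTheory.Abelian AlgebraicGeometry TopologicalSpace Opposite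

noncomputable section

namespace Groth.L22.DualCM

open Groth.L16
open Groth.L22.Reg (O' tw')
open Groth.L22.ExtSh (exists_ext_twist_vanish_all)
open Groth.L16.CohLinear (overLin tm)

variable {k : Type u} [Field k] {X : Scheme.{u}} [X.Over (Spec (CommRingCat.of k))]
  [IsProper (X ↘ Spec (CommRingCat.of k))] {n : ℕ} {ω : X.Modules} (t : Coh.HH X ω n →ₗ[k] k)

/-- The pairing defined by `t`. -/
def B (F : X.Modules) : (F ⟶ ω) →+ Module.Dual k (Coh.HH X F n) :=
  AddMonoidHom.mk' (fun φ => t.comp (overLin k (Groth.L16.CohLinear.hmap φ n))) fun φ ψ => LinearMap.ext fun x => by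
    show t (Sheaf.H.map (tm (φ + ψ)) n x) = t (Sheaf.H.map (tm φ) n x) + t (Sheaf.H.map (tm ψ) n x)
    rw [show tm (φ + ψ) = tm φ + tm ψ from Functor.map_add _, Sheaf.H.map_add_apply, map_add]

theorem B_comp {F G : X.Modules} (a : F ⟶ G) (φ : G ⟶ ω) :
    B t F (a ≫ φ) = (B t G φ).comp (overLin k (Groth.L16.CohLinear.hmap a n)) := LinearMap.ext fun x => by
  show t (Groth.L16.CohLinear.hmap (a ≫ φ) n x) = _
  rw [Groth.L16.CohLinear.hmap_comp]
  rfl

/-- The pairing, linearly. -/
def BL (F : X.Modules) : (F ⟶ ω) →ₗ[k] Module.Dual k (Coh.HH X F n) where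
  toFun := B t F
  map_add' := map_add _
  map_smul' c φ := LinearMap.ext fun x => by
    rw [KLin.smul_def, B_comp]
    show B t F φ (Sheaf.H.map (tm (Formal.smulMod k F c)) n x) = c • B t F φ x
    rw [show tm (Formal.smulMod k F c) = Coh.smulAb F (Coh.toGlobal (X ↘ Spec (CommRingCat.of k)) c) from rfl,
      ← map_smul]
    rfl

/-- The pairing is perfect on coherent modules. -/
def IsDual : Prop := ∀ F : X.Modules, Coh.IsCoh F → ∀ ψ : Coh.HH X F n →ₗ[k] k,
  ∃! φ : F ⟶ ω, ∀ x : Coh.HH X F n,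
    ψ x = t (Sheaf.H.map ((SheafOfModules.toSheaf X.ringCatSheaf).map φ) n x)

variable {t} (hD : IsDual t) [HasExt.{u} X.Modules]

include hD in
omit [IsProper (X ↘ Spec (CommRingCat.of k))] [HasExt.{u} X.Modules] in
theorem bijective_B {F : X.Modules} (hF : Coh.IsCoh F) : Function.Bijective (B t F) := by
  refine ⟨fun φ ψ h => ?_, fun ψ => ?_⟩
  · obtain ⟨φ₀, -, hu⟩ := hD F hF (B t F φ)
    rw [hu φ fun x => rfl, hu ψ fun x => LinearMap.congr_fun h x]
  · obtain ⟨φ, hφ, -⟩ := hD F hF ψ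
    exact ⟨φ, LinearMap.ext fun x => (hφ x).symm⟩

/-- `Ext⁰(F, ω) ≅ H^n(F)^∨`. -/
def e0 {F : X.Modules} (hF : Coh.IsCoh F) : Ext F ω 0 ≃ₗ[k] Module.Dual k (Coh.HH X F n) :=
  Ext.linearEquiv₀.trans (LinearEquiv.ofBijective (BL t F) (bijective_B hD hF))

theorem e0_mk₀ {F : X.Modules} (hF : Coh.IsCoh F) (φ : F ⟶ ω) : e0 hD hF (Ext.mk₀ φ) = B t F φ := by
  show BL t F (Ext.linearEquiv₀ (R := k) (Ext.mk₀ φ)) = B t F φ
  rw [← Ext.linearEquiv₀_symm_apply (R := k), LinearEquiv.apply_symm_apply]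
  rfl

/-- The dimension of a cohomology group. -/
irreducible_def hd (F : X.Modules) (i : ℕ) : ℕ := Module.finrank k (Coh.HH X F i)

/-- The statement of duality in degree `i`. -/
def DualAt (F : X.Modules) (i : ℕ) : Prop :=
  Module.Finite k (Ext F ω i) ∧
    Module.finrank k (Ext F ω i) = if i ≤ n then hd (k := k) F (n - i) else 0

include hD in
theorem dualAt_zero {F : X.Modules} (hF : Coh.IsCoh F) : DualAt (k := k) (n := n) (ω := ω) F 0 := by
  haveI := Groth.L16.ProperFinite.finite_HH k hF n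
  refine ⟨Module.Finite.equiv (e0 hD hF).symm, ?_⟩
  rw [if_pos (Nat.zero_le _), (e0 hD hF).finrank_eq, Subspace.dual_finrank_eq, hd_def, Nat.sub_zero]

variable {S : ShortComplex X.Modules}

include hD in
theorem dualAt_one (hS : S.ShortExact) (h1 : Coh.IsCoh S.X₁) (h2 : Coh.IsCoh S.X₂) (h3 : Coh.IsCoh S.X₃)
    (hE : Subsingleton (Ext S.X₂ (ω) 1))
    (hH : ∀ j, j ≠ n → Subsingleton (Coh.HH X S.X₂ j)) : DualAt (k := k) (n := n) (ω := ω) S.X₃ 1 := by
  let f := Ext.precompOfLinear (Ext.mk₀ S.f) k (ω) (zero_add 0)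
  let ε := Ext.precompOfLinear hS.extClass k (ω) (show 1 + 0 = 1 from rfl)
  have hsurj : Function.Surjective ε := fun x =>
    Ext.contravariant_sequence_exact₃ hS _ x (Subsingleton.elim _ _) rfl
  haveI := Groth.L16.ProperFinite.finite_HH k h1 n
  haveI := Groth.L16.ProperFinite.finite_HH k h2 n
  haveI : Module.Finite k (Ext S.X₁ (ω) 0) := Module.Finite.equiv (e0 hD h1).symm
  haveI : Module.Finite k (Ext S.X₂ (ω) 0) := Module.Finite.equiv (e0 hD h2).symm
  refine ⟨Module.Finite.of_surjective ε hsurj, ?_⟩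
  have hker : LinearMap.ker ε = LinearMap.range f := by
    refine le_antisymm (fun y hy => ?_) ?_
    · obtain ⟨z, hz⟩ := Ext.contravariant_sequence_exact₁ hS (ω) y (n₁ := 1) rfl hy
      exact ⟨z, hz⟩
    · rintro _ ⟨z, rfl⟩
      show hS.extClass.comp ((Ext.mk₀ S.f).comp z (zero_add 0)) rfl = 0
      rw [← Ext.comp_assoc_of_second_deg_zero, hS.extClass_comp, Ext.zero_comp]
  let g := overLin k (Groth.L16.CohLinear.hmap S.f n)
  have hcomm : ∀ z, e0 hD h1 (f z) = g.dualMap (e0 hD h2 z) := fun z => by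
    obtain ⟨φ, rfl⟩ := (Ext.mk₀_bijective S.X₂ (ω)).2 z
    show e0 hD h1 ((Ext.mk₀ S.f).comp (Ext.mk₀ φ) (zero_add 0)) = _
    rw [Ext.mk₀_comp_mk₀, e0_mk₀, e0_mk₀, B_comp t]
    rfl
  have hrange : Submodule.map (e0 hD h1).toLinearMap (LinearMap.range f) = LinearMap.range g.dualMap := by
    ext ψ
    constructor
    · rintro ⟨_, ⟨z, rfl⟩, rfl⟩
      exact ⟨_, (hcomm z).symm⟩
    · rintro ⟨χ, rfl⟩
      exact ⟨_, ⟨(e0 hD h2).symm χ, rfl⟩, (hcomm _).trans (by rw [LinearEquiv.apply_symm_apply])⟩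
  have hr : Module.finrank k (LinearMap.range f) = Module.finrank k (LinearMap.range g) := by
    rw [← LinearEquiv.finrank_map_eq (e0 hD h1), ← LinearMap.finrank_range_dualMap_eq_finrank_range g, hrange]
  have e1 := LinearMap.finrank_range_add_finrank_ker ε
  rw [LinearMap.range_eq_top.2 hsurj, _root_.finrank_top, hker, hr, (e0 hD h1).finrank_eq, Subspace.dual_finrank_eq] at e1
  have e2 := LinearMap.finrank_range_add_finrank_ker g
  have e3 : Module.finrank k (Ext S.X₃ (ω) 1) = Module.finrank k (LinearMap.ker g) := by omega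
  rw [e3]
  clear e1 e2 e3 hr hrange hcomm hker
  cases n with
  | zero =>
    rw [if_neg (by omega), show LinearMap.ker g = ⊥ from LinearMap.ker_eq_bot.2 (show Function.Injective g from Groth.L03.Euler.injective_hmap_zero hS), finrank_bot]
  | succ m =>
    rw [if_pos (by omega), hd_def, Nat.add_sub_cancel]
    have hS' := CohLinear.exact_delta_hmap hS m
    have hd' : Function.Injective (overLin k (CohLinear.delta hS m)) := by
      rw [injective_iff_map_eq_zero]
      intro x hx
      obtain ⟨y, rfl⟩ := (CohLinear.exact_hmap_delta hS m x).1 hx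
      rw [@Subsingleton.elim _ (hH m (by omega)) y 0]
      exact map_zero _
    have hk : LinearMap.ker g = LinearMap.range (overLin k (CohLinear.delta hS m)) := by
      ext x
      exact hS' x
    rw [hk, LinearMap.finrank_range_of_inj hd']

theorem dualAt_succ (hS : S.ShortExact) {i : ℕ} (hi : 1 ≤ i) (h1 : DualAt (k := k) (n := n) (ω := ω) S.X₁ i)
    (hE : ∀ j, Subsingleton (Ext S.X₂ (ω) (j + 1)))
    (hH : ∀ j, j ≠ n → Subsingleton (Coh.HH X S.X₂ j)) : DualAt (k := k) (n := n) (ω := ω) S.X₃ (i + 1) := by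
  let ε := Ext.precompOfLinear hS.extClass k (ω) (show 1 + i = i + 1 by omega)
  haveI := hE i
  haveI : Subsingleton (Ext S.X₂ (ω) i) := by
    have := hE (i - 1)
    rwa [show i - 1 + 1 = i by omega] at this
  have hsurj : Function.Surjective ε := fun x =>
    Ext.contravariant_sequence_exact₃ hS _ x (Subsingleton.elim _ _) (show 1 + i = i + 1 by omega)
  have hinj : Function.Injective ε := by
    rw [injective_iff_map_eq_zero]
    intro y hy
    obtain ⟨z, rfl⟩ := Ext.contravariant_sequence_exact₁ hS (ω) y (n₁ := i + 1) (by omega) hy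
    rw [Subsingleton.elim z 0, Ext.comp_zero]
  let e := LinearEquiv.ofBijective ε ⟨hinj, hsurj⟩
  haveI := h1.1
  refine ⟨Module.Finite.equiv e, ?_⟩
  rw [← e.finrank_eq, h1.2]
  by_cases hin : i + 1 ≤ n
  · rw [if_pos (by omega), if_pos hin]
    obtain ⟨m, hm⟩ : ∃ m, n - (i + 1) = m := ⟨_, rfl⟩
    rw [hm, show n - i = m + 1 by omega, hd_def, hd_def]
    refine (LinearEquiv.ofBijective (overLin k (CohLinear.delta hS m)) ⟨?_, fun y => ?_⟩).finrank_eq.symm
    · rw [injective_iff_map_eq_zero]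
      intro x hx
      obtain ⟨y, rfl⟩ := (CohLinear.exact_hmap_delta hS m x).1 hx
      rw [@Subsingleton.elim _ (hH m (by omega)) y 0]
      exact map_zero _
    · exact (CohLinear.exact_delta_hmap hS m y).1 (@Subsingleton.elim _ (hH (m + 1) (by omega)) _ _)
  · rw [if_neg hin]
    split
    · rw [show n - i = 0 by omega, hd_def]
      haveI : Subsingleton (Coh.HH X S.X₁ 0) :=
        (haveI := hH 0 (by omega); (Groth.L03.Euler.injective_hmap_zero hS).subsingleton)
      exact Module.finrank_zero_of_subsingleton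
    · rfl


/-- Sums of negative twists on `X` cover every coherent module. -/
theorem exists_epi_sum {N : ℕ} (ι : X ⟶ CohB1.ProjSpace N k) [IsClosedImmersion ι] {F : X.Modules} (hF : Coh.IsCoh F)
    (q₀ : ℕ) : ∃ (q r : ℕ) (p : (∐ fun _ : Fin r => (Scheme.Modules.pullback ι).obj (O' N k (-(q : ℤ)))) ⟶ F),
      q₀ ≤ q ∧ Epi p := by
  haveI := Groth.L22.PDual.proper N k
  haveI := Groth.L21.RR.isNoetherian_of_proper (X := CohB1.ProjSpace N k) k
  haveI := Groth.L17.ClosedPush.isIso_counit ι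
  obtain ⟨q, r, p, hq, hp⟩ := Groth.L22.PDual.exists_epi_twists (Groth.L16.CohClosedPush.isCoh_push ι hF) q₀
  haveI := hp
  haveI := (Scheme.Modules.pullbackPushforwardAdjunction ι).leftAdjoint_preservesColimits
  haveI : Epi ((Scheme.Modules.pullback ι).map p) := inferInstance
  exact ⟨q, r, (PreservesCoproduct.iso (Scheme.Modules.pullback ι) fun _ : Fin r => O' N k (-(q : ℤ))).inv ≫
    (Scheme.Modules.pullback ι).map p ≫ (Scheme.Modules.pullbackPushforwardAdjunction ι).counit.app F, hq,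
    inferInstance⟩

include hD in
omit [IsProper (X ↘ Spec (CommRingCat.of k))] in
theorem dualAt [IsProper (X ↘ Spec (CommRingCat.of k))] {N : ℕ} (ι : X ⟶ CohB1.ProjSpace N k) [IsClosedImmersion ι]
    (hn : topologicalKrullDim ↥X = n)
    (hCM : ∀ x : X, IsClosed ({x} : Set ↥X) →
      LocCoh.IsCohenMacaulayLocalRing (X.presheaf.stalk x) ∧ ringKrullDim (X.presheaf.stalk x) = n)
    (hω : Coh.IsCoh ω) :
    ∀ (i : ℕ) (F : X.Modules), Coh.IsCoh F → DualAt (k := k) (n := n) (ω := ω) F i := by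
  haveI := Groth.L22.PDual.proper N k
  haveI := Groth.L21.RR.isNoetherian_of_proper (X := CohB1.ProjSpace N k) k
  haveI := Groth.L21.RR.isNoetherian_of_proper (X := X) k
  haveI := Groth.L00.Tensor.grothendieckAbelian_modules X
  obtain ⟨d, hdE⟩ := exists_ext_twist_vanish_all ι hω
  have hO : FlatMod.IsFinLocFree (Coh.structureModule X) :=
    Groth.L20.ResDescent.isFinLocFree_of_isInvertible (Groth.L18.Ample.isInvertible_structureModule X)
  obtain ⟨q₁, hq₁⟩ := (Groth.L22.PDual.cm_iff_vanish ι n hn).1 hCM _ hO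
  have hE : ∀ r q : ℕ, d.toNat ≤ q → ∀ j, Subsingleton
      (Ext (∐ fun _ : Fin r => (Scheme.Modules.pullback ι).obj (O' N k (-(q : ℤ)))) ω (j + 1)) := fun r q hq j =>
    Groth.L10.AcycObj.subsingleton_ext_coprod _ ω (fun _ j => hdE q (by omega) (j + 1) (Nat.succ_pos j)) j
  have hH : ∀ r q : ℕ, q₁ ≤ q → ∀ j, j ≠ n → Subsingleton
      (Coh.HH X (∐ fun _ : Fin r => (Scheme.Modules.pullback ι).obj (O' N k (-(q : ℤ)))) j) := fun r q hq j hj =>
    ProjSpace.subsingleton_sigma _ j fun _ => by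
      rcases Nat.lt_or_ge j n with h | h
      · exact Groth.L16.ProjSpace.subsingleton_of_iso (Groth.L00.Tensor.tensorUnitLeft _).symm j (hq₁ q hq j h)
      · exact Groth.L22.Inter.subsingleton_HH_of_dim hn.le _ (by omega)
  intro i
  induction i with
  | zero => exact fun F hF => dualAt_zero hD hF
  | succ i ih =>
    intro F hF
    obtain ⟨q, r, p, hq, hp⟩ := exists_epi_sum ι hF (d.toNat + q₁)
    have hEc : Coh.IsCoh (∐ fun _ : Fin r => (Scheme.Modules.pullback ι).obj (O' N k (-(q : ℤ)))) :=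
      Groth.L16.NegPow.isCoh_of_isFinLocFree (Groth.L29.DC.isFinLocFree_coprod_fin r _ fun _ =>
        Groth.L29.LocFree.pullback ι (Groth.L20.ResDescent.isFinLocFree_of_isInvertible
          (Groth.L16.ProjTwist.isInvertible_twistProjSpace N k _)))
    let S := ShortComplex.mk (kernel.ι p) p (kernel.condition p)
    have hS : S.ShortExact := { exact := ShortComplex.exact_kernel p }
    have hK : Coh.IsCoh S.X₁ := (CohKernel.isCoh_kernel_cokernel hEc hF p).1
    rcases Nat.eq_zero_or_pos i with rfl | hi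
    · exact dualAt_one hD (S := S) hS hK hEc hF (hE r q (by omega) 0) (hH r q (by omega))
    · exact dualAt_succ (S := S) hS hi (ih _ hK) (hE r q (by omega)) (hH r q (by omega))

end Groth.L22.DualCM
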