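import Groth.Agent.L22.ExtSh.Codim
import Groth.Agent.L16.CohClosedPush
import Groth.Agent.L16.ProjSpace.Dim

/-!
Vanishing of Ext sheaves of structure sheaves of closed subschemes below the codimension.
-/

set_option autoImplicit false
set_option backward.isDefEq.respectTransparency false
set_option linter.style.haveILetI false
universe u

open CategoryTheory CategoryTheory.Limits AlgebraicGeometry TopologicalSpace Opposite
open IsLocalRing

noncomputable section

namespace Groth.L22.ExtSh

theorem dim_support_push_le {X P : Scheme.{u}} (ι : X ⟶ P) [IsClosedImmersion ι] (M : X.Modules) :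
    topologicalKrullDim (CohB1.support ((Coh.push ι).obj M)) ≤ topologicalKrullDim X := by
  have h := Groth.L16.CohClosedPush.support_push_subset ι M
  refine le_trans (Topology.IsInducing.topologicalKrullDim_le
    (f := Set.inclusion h) (Topology.IsEmbedding.inclusion h).isInducing) ?_
  exact (IsHomeomorph.topologicalKrullDim_eq _
    ι.isClosedEmbedding.isEmbedding.toHomeomorph.isHomeomorph).ge

theorem isZero_extSh_push_of_lt_codim {k : Type u} [Field k] {X P : Scheme.{u}}
    [P.Over (Spec (CommRingCat.of k))] [LocallyOfFiniteType (P ↘ Spec (CommRingCat.of k))]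
    (hreg : ∀ p : P, IsRegularLocalRing (P.presheaf.stalk p)) {n : ℕ}
    (hn : ∀ p : P, (n : WithBot ℕ∞) ≤ FlatMor.localDim P p)
    (ι : X ⟶ P) [IsClosedImmersion ι] {r : ℕ}
    (hr : topologicalKrullDim ↥X + (r : WithBot ℕ∞) ≤ (n : WithBot ℕ∞))
    {E : P.Modules} (hE : FlatMod.IsFinLocFree E)
    [ModSite.HasSheafHom (O := P.sheaf) ((Scheme.Modules.pushforward ι).obj (Coh.structureModule X))]
    [HasInjectiveResolutions (ModSite.Mod P.sheaf)] (i : ℕ) (hi : i < r) :
    IsZero ((ModSite.extSh (O := P.sheaf)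
      ((Scheme.Modules.pushforward ι).obj (Coh.structureModule X)) i).obj E) := by
  haveI : IsLocallyNoetherian P := LocallyOfFiniteType.isLocallyNoetherian (P ↘ Spec (CommRingCat.of k))
  haveI : IsLocallyNoetherian X := LocallyOfFiniteType.isLocallyNoetherian ι
  have hF : Coh.IsCoh ((Coh.push ι).obj (Coh.structureModule X)) :=
    Groth.L16.CohClosedPush.isCoh_push ι Groth.L16.CohClosedPush.isCoh_structure
  refine isZero_extSh_of_isFinLocFree hF hE i fun x => ?_
  haveI := hreg x
  refine subsingleton_ext_stalk (k := k) x (hn x) hF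
    (lt_of_le_of_lt (add_le_add_left (dim_support_push_le ι _) _) ?_)
  rcases eq_or_ne (topologicalKrullDim ↥X) ⊥ with h | h
  · rw [h, WithBot.bot_add]; exact WithBot.bot_lt_coe _
  obtain ⟨d, hd⟩ := WithBot.ne_bot_iff_exists.1 h
  rw [← hd] at hr ⊢
  cases d with
  | top =>
    rw [show ((⊤ : ℕ∞) : WithBot ℕ∞) + ((r : ℕ) : WithBot ℕ∞) = ((⊤ + r : ℕ∞) : WithBot ℕ∞) from rfl, top_add] at hr
    exact absurd (WithBot.coe_le_coe.1 hr) (by simp)
  | coe d =>
    have hdr : d + r ≤ n := by exact_mod_cast hr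
    exact_mod_cast (show d + i < n by omega)

end Groth.L22.ExtSh

namespace Groth.L22.ExtSh

/-- The version on `P^N`. -/
theorem isZero_extSh_push_projSpace {k : Type u} [Field k] {N : ℕ}
    {X : Scheme.{u}} (ι : X ⟶ CohB1.ProjSpace N k) [IsClosedImmersion ι] {r : ℕ}
    (hr : topologicalKrullDim ↥X + (r : WithBot ℕ∞) ≤ (N : WithBot ℕ∞))
    {E : (CohB1.ProjSpace N k).Modules} (hE : FlatMod.IsFinLocFree E)
    [ModSite.HasSheafHom (O := (CohB1.ProjSpace N k).sheaf) ((Scheme.Modules.pushforward ι).obj (Coh.structureModule X))]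
    [HasInjectiveResolutions (ModSite.Mod (CohB1.ProjSpace N k).sheaf)] (i : ℕ) (hi : i < r) :
    IsZero ((ModSite.extSh (O := (CohB1.ProjSpace N k).sheaf)
      ((Scheme.Modules.pushforward ι).obj (Coh.structureModule X)) i).obj E) := by
  haveI := Groth.L22.PDual.proper N k
  letI : (CohB1.ProjSpace N k).Over (Spec (CommRingCat.of k)) := ⟨CohB1.ProjSpace.toSpec N k⟩
  haveI : LocallyOfFiniteType (CohB1.ProjSpace N k ↘ Spec (CommRingCat.of k)) :=
    inferInstanceAs (LocallyOfFiniteType (CohB1.ProjSpace.toSpec N k))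
  refine isZero_extSh_push_of_lt_codim (k := k) Groth.L22.PDual.regular_stalk
    (le_localDim_of_equidim k fun Z hZ => ?_) ι hr hE i hi
  rw [irreducibleComponents_eq_singleton, Set.mem_singleton_iff] at hZ
  subst hZ
  rw [IsHomeomorph.topologicalKrullDim_eq _ (Homeomorph.Set.univ _).isHomeomorph]
  exact Groth.L16.ProjSpace.topologicalKrullDim_eq_of_field N k

end Groth.L22.ExtSh

namespace Groth.L22.ExtSh

/-- The dimension is bounded by that of the irreducible components. -/
theorem topologicalKrullDim_le_of_components {T : Type*} [TopologicalSpace T] {d : WithBot ℕ∞}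
    (h : ∀ Z : Set T, Z ∈ irreducibleComponents T → topologicalKrullDim ↥Z ≤ d) :
    topologicalKrullDim T ≤ d := by
  refine iSup_le fun l => ?_
  obtain ⟨Z, hZ, hsub⟩ := exists_mem_irreducibleComponents_subset_of_isIrreducible _ l.last.isIrreducible
  let res : ∀ i, IrreducibleCloseds ↥Z := fun i =>
    { carrier := Subtype.val ⁻¹' (l i : Set T)
      isIrreducible' := by
        have hi : (l i : Set T) ⊆ Z := (SetLike.coe_subset_coe.2 (l.monotone (Fin.le_last i))).trans hsub
        obtain ⟨⟨x, hx⟩, hp⟩ := (l i).isIrreducible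
        refine ⟨⟨⟨x, hi hx⟩, hx⟩, ?_⟩
        rintro _ _ ⟨U, hU, rfl⟩ ⟨V, hV, rfl⟩ ⟨a, ha, haU⟩ ⟨b, hb, hbV⟩
        obtain ⟨c, hc, hcU, hcV⟩ := hp U V hU hV ⟨a, ha, haU⟩ ⟨b, hb, hbV⟩
        exact ⟨⟨c, hi hc⟩, hc, hcU, hcV⟩
      isClosed' := (l i).isClosed.preimage continuous_subtype_val }
  have hmono : StrictMono res := fun i j hij => by
    obtain ⟨hle, hne⟩ := lt_iff_le_and_ne.1 (l.strictMono hij)
    refine lt_iff_le_and_ne.2 ⟨fun x hx => hle hx, fun he => hne (SetLike.coe_injective ?_)⟩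
    have hj : (l j : Set T) ⊆ Z := (SetLike.coe_subset_coe.2 (l.monotone (Fin.le_last j))).trans hsub
    have hi : (l i : Set T) ⊆ Z := (SetLike.coe_subset_coe.2 (l.monotone (Fin.le_last i))).trans hsub
    have hset : Subtype.val ⁻¹' (l i : Set T) = (Subtype.val ⁻¹' (l j : Set T) : Set ↥Z) :=
      congrArg (fun s : IrreducibleCloseds ↥Z => (s : Set ↥Z)) he
    refine Set.ext fun x => ⟨fun hx => ?_, fun hx => ?_⟩
    · exact (Set.ext_iff.1 hset ⟨x, hi hx⟩).1 hx
    · exact (Set.ext_iff.1 hset ⟨x, hj hx⟩).2 hx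
  exact le_trans (Order.LTSeries.length_le_krullDim (LTSeries.mk l.length res hmono)) (h Z hZ)

end Groth.L22.ExtSh
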