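import Groth.Agent.L22.ExtSh.ExtResidue
import Groth.Agent.L22.ExtSh.PushCodim
import Groth.Agent.L22.PDual.CMVanish
import Groth.Agent.L17.ClosedPush
import Mathlib.RingTheory.KrullDimension.Regular

/-!
The Ext sheaf in codimension is torsion free of rank one.
-/

set_option autoImplicit false
set_option backward.isDefEq.respectTransparency false
set_option linter.style.haveILetI false
universe u

open CategoryTheory CategoryTheory.Limits CategoryTheory.Abelian AlgebraicGeometry TopologicalSpace Opposite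
open IsLocalRing
open scoped Pointwise

noncomputable section

namespace Groth.L22.ExtSh

variable {X : Scheme.{u}}

/-- The stalk of an Ext sheaf, over the stalk of the structure sheaf. -/
theorem nonempty_ext_stalk_equiv [IsLocallyNoetherian X] {F : X.Modules} (hF : Coh.IsCoh F) (G : X.Modules)
    [ModSite.HasSheafHom (O := X.sheaf) F] [HasInjectiveResolutions (ModSite.Mod X.sheaf)] (x : X) (i : ℕ) :
    Nonempty (Ext (ModuleCat.of (X.presheaf.stalk x) (F.presheaf.stalk x))
      (ModuleCat.of (X.presheaf.stalk x) (G.presheaf.stalk x)) i ≃ₗ[X.presheaf.stalk x]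
        ↑((Groth.L00.Stk.F X x).obj ((ModSite.extSh (O := X.sheaf) F i).obj G))) := by
  let Φ := ModuleCat.restrictScalars.{u} (rho x)
  haveI : Φ.IsEquivalence :=
    (ModuleCat.restrictScalarsEquivalenceOfRingEquiv (ringIso x).commRingCatIsoToRingEquiv).isEquivalence_functor
  haveI : Φ.PreservesInjectiveObjects := ⟨fun {I} hI => (Equivalence.map_injective_iff Φ.asEquivalence I).2 hI⟩
  let A := (Groth.L00.Stk.F X x).obj F
  let B := (Groth.L00.Stk.F X x).obj G
  obtain ⟨e⟩ := nonempty_stalk_extSh F hF G x i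
  let L : Ext A B i ≃+ ((stkS x).obj ((ModSite.extSh (O := X.sheaf) F i).obj G)) :=
    (AddEquiv.ofBijective (Φ.mapExtAddHom A B i) (Φ.mapExt_bijective_of_preservesInjectiveObjects A B i)).trans
      e.symm.toAddEquiv
  have hL : ∀ (r : ModSite.stalkRing (pt x) X.sheaf) (z : Ext A B i), L (rho x r • z) = r • L z := by
    intro r z
    show e.symm (Ext.mapExactFunctor Φ (rho x r • z)) = r • e.symm (Ext.mapExactFunctor Φ z)
    rw [← map_smul]
    congr 1
    rw [smul_eq_mk₀_comp, Ext.mapExactFunctor_comp, Ext.mapExactFunctor_mk₀, smul_eq_mk₀_comp r]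
    rfl
  exact ⟨{ toFun := fun z => L z
           map_add' := fun a b => map_add L a b
           invFun := fun w => L.symm w
           left_inv := L.symm_apply_apply
           right_inv := L.apply_symm_apply
           map_smul' := fun c z => by
             obtain ⟨r, rfl⟩ := (bijective_rho x).2 c
             exact hL r z }⟩

/-- The stalk of a bundle of rank one can be taken to be the ring. -/
theorem nonempty_ext_congr_right {R : Type u} [CommRing R] {N M M' : ModuleCat.{u} R} (e : M ≅ M') (i : ℕ) :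
    Nonempty (Ext N M i ≃ₗ[R] Ext N M' i) :=
  ⟨{ Ext.postcompOfLinear (Ext.mk₀ e.hom) R N (add_zero i) with
     invFun := fun z => z.comp (Ext.mk₀ e.inv) (add_zero i)
     left_inv := fun z => by
      show (z.comp (Ext.mk₀ e.hom) (add_zero i)).comp (Ext.mk₀ e.inv) (add_zero i) = z
      rw [Ext.comp_assoc_of_second_deg_zero, Ext.mk₀_comp_mk₀, e.hom_inv_id, Ext.comp_mk₀_id]
     right_inv := fun z => by
      show (z.comp (Ext.mk₀ e.inv) (add_zero i)).comp (Ext.mk₀ e.hom) (add_zero i) = z
      rw [Ext.comp_assoc_of_second_deg_zero, Ext.mk₀_comp_mk₀, e.inv_hom_id, Ext.comp_mk₀_id] }⟩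

/-- The same with the first argument moved. -/
theorem nonempty_ext_congr_left {R : Type u} [CommRing R] {N N' M : ModuleCat.{u} R} (e : N ≅ N') (i : ℕ) :
    Nonempty (Ext N M i ≃ₗ[R] Ext N' M i) :=
  ⟨{ Ext.precompOfLinear (Ext.mk₀ e.inv) R M (zero_add i) with
     invFun := fun z => (Ext.mk₀ e.hom).comp z (zero_add i)
     left_inv := fun z => by
      show (Ext.mk₀ e.hom).comp ((Ext.mk₀ e.inv).comp z (zero_add i)) (zero_add i) = z
      rw [Ext.mk₀_comp_mk₀_assoc, e.hom_inv_id, Ext.mk₀_id_comp]
     right_inv := fun z => by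
      show (Ext.mk₀ e.inv).comp ((Ext.mk₀ e.hom).comp z (zero_add i)) (zero_add i) = z
      rw [Ext.mk₀_comp_mk₀_assoc, e.inv_hom_id, Ext.mk₀_id_comp] }⟩

theorem isField_stalk_of_component [IsReduced X] {x : X} (hx : closure ({x} : Set ↥X) ∈ irreducibleComponents ↥X) :
    IsField (X.presheaf.stalk x) := by
  have huniq : ∀ z : X, z ⤳ x → z = x := fun z hz => by
    refine (hz.antisymm ?_).eq
    refine specializes_iff_mem_closure.2 (hx.2 isIrreducible_singleton.closure ?_ (subset_closure rfl))
    exact closure_minimal (Set.singleton_subset_iff.2 hz.mem_closure) isClosed_closure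
  haveI : Subsingleton (PrimeSpectrum (X.presheaf.stalk x)) := ⟨fun p q => by
    refine (X.fromSpecStalk x).isEmbedding.injective ?_
    have h : ∀ p, X.fromSpecStalk x p = x := fun p => huniq _
      (Set.ext_iff.1 (X.range_fromSpecStalk (x := x)) _ |>.1 ⟨p, rfl⟩)
    rw [h p, h q]⟩
  refine IsLocalRing.isField_iff_maximalIdeal_eq.2 (eq_bot_iff.2 fun a ha => ?_)
  have hnil : IsNilpotent a := by
    rw [nilpotent_iff_mem_prime]
    intro J hJ
    rw [show J = maximalIdeal _ from congrArg PrimeSpectrum.asIdeal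
      (Subsingleton.elim (⟨J, hJ⟩ : PrimeSpectrum _) (IsLocalRing.closedPoint _))]
    exact ha
  exact hnil.eq_zero

variable {k : Type u} [Field k] {N : ℕ} (ι : X ⟶ CohB1.ProjSpace N k) [IsClosedImmersion ι]

/-- The stalk of `ι_* O` is cyclic, on the stalk of `O`. -/
theorem exists_c₀_structure (x : X) :
    ∃ c : ((Coh.push ι).obj (Coh.structureModule X)).presheaf.stalk (ι x) →+ X.presheaf.stalk x,
      Function.Bijective c ∧ ∀ (r : (CohB1.ProjSpace N k).presheaf.stalk (ι x)) m,
        c (r • m) = ι.stalkMap x r * c m := by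
  obtain ⟨e, he⟩ := Groth.L21.RR.exists_frame_stalk (Groth.L18.Ample.isInvertible_structureModule X) x
  let q := LinearEquiv.ofBijective (LinearMap.toSpanSingleton (X.presheaf.stalk x)
    ((Coh.structureModule X).presheaf.stalk x) e) he
  refine ⟨q.symm.toAddMonoidHom.comp (Groth.L17.ClosedPush.c₀ ι (Coh.structureModule X) x),
    q.symm.bijective.comp (Groth.L17.ClosedPush.c₀_bijective ι _ x), fun r m => ?_⟩
  show q.symm (Groth.L17.ClosedPush.c₀ ι (Coh.structureModule X) x (r • m)) = _
  rw [Groth.L17.ClosedPush.c₀_smul]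
  exact q.symm.map_smul _ _

variable {n : ℕ} (hn : topologicalKrullDim ↥X ≤ (n : WithBot ℕ∞)) {c : ℕ} (hnc : n + c = N)

include hn hnc in
theorem supportDim_add_le (x : X) {b : ℕ}
    (hb : ringKrullDim ((CohB1.ProjSpace N k).presheaf.stalk (ι x)) = b) :
    Module.supportDim ((CohB1.ProjSpace N k).presheaf.stalk (ι x))
      (((Coh.push ι).obj (Coh.structureModule X)).presheaf.stalk (ι x)) + (c : WithBot ℕ∞) ≤ b := by
  haveI := Groth.L22.PDual.proper N k
  haveI := Groth.L21.RR.isNoetherian_of_proper (X := CohB1.ProjSpace N k) k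
  haveI : IsLocallyNoetherian X := LocallyOfFiniteType.isLocallyNoetherian ι
  letI : (CohB1.ProjSpace N k).Over (Spec (CommRingCat.of k)) := ⟨CohB1.ProjSpace.toSpec N k⟩
  haveI : LocallyOfFiniteType (CohB1.ProjSpace N k ↘ Spec (CommRingCat.of k)) :=
    inferInstanceAs (LocallyOfFiniteType (CohB1.ProjSpace.toSpec N k))
  let P := CohB1.ProjSpace N k
  let F := (Coh.push ι).obj (Coh.structureModule X)
  have hF : Coh.IsCoh F := Groth.L16.CohClosedPush.isCoh_push ι Groth.L16.CohClosedPush.isCoh_structure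
  have hlocN : (N : WithBot ℕ∞) ≤ FlatMor.localDim P (ι x) := le_localDim_of_equidim k (fun Z hZ => by
    rw [irreducibleComponents_eq_singleton, Set.mem_singleton_iff] at hZ
    subst hZ
    rw [IsHomeomorph.topologicalKrullDim_eq _ (Homeomorph.Set.univ _).isHomeomorph]
    exact Groth.L16.ProjSpace.topologicalKrullDim_eq_of_field N k) (ι x)
  have hmem : ι x ∈ CohB1.support F := fun hsub => by
    obtain ⟨c', hc', -⟩ := exists_c₀_structure ι x
    exact not_subsingleton (X.presheaf.stalk x) hc'.2.subsingleton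
  obtain ⟨a, b', ha, hb', hloc⟩ := Groth.L22.SchemeDim.exists_localDim k P (ι x)
  obtain rfl : b = b' := by exact_mod_cast hb.symm.trans hb'
  obtain ⟨m, hm, htr⟩ := Groth.L22.SchemeDim.exists_dim_closure_eq_trdeg k P (ι x)
  obtain rfl : a = m := by exact_mod_cast ha.symm.trans htr
  have hS := Groth.Agent.S4889.result (X := P) (S := Spec (CommRingCat.of k))
    (isUniversallyCatenary_stalk_field (k := k))
    (fun S' _ s hs _ => dim_point_eq S' s hs) (P ↘ Spec (CommRingCat.of k)) F hF (ι x) hmem
  rw [hm] at hS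
  have h1 : FlatMor.localDim ↥(CohB1.support F) ⟨ι x, hmem⟩ ≤ topologicalKrullDim (CohB1.support F) :=
    iInf_le_of_le ⟨⊤, trivial⟩ (topologicalKrullDim_subspace_le _ _)
  have h2 := h1.trans ((dim_support_push_le ι _).trans hn)
  rw [← hS] at h2
  rw [hloc] at hlocN
  generalize Module.supportDim ((CohB1.ProjSpace N k).presheaf.stalk (ι x))
      (((Coh.push ι).obj (Coh.structureModule X)).presheaf.stalk (ι x)) = d at h2 ⊢
  cases d with
  | bot => simp
  | coe d =>
    cases d with
    | top =>
      rw [show (a : WithBot ℕ∞) + ((⊤ : ℕ∞) : WithBot ℕ∞) = ((a + ⊤ : ℕ∞) : WithBot ℕ∞) from rfl, add_top] at h2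
      exact absurd (WithBot.coe_le_coe.1 h2) (by simp)
    | coe d =>
      have h3 : a + d ≤ n := by exact_mod_cast h2
      have h4 : N ≤ a + b := by exact_mod_cast hlocN
      exact_mod_cast (show d + c ≤ b by omega)

variable [ModSite.HasSheafHom (O := (CohB1.ProjSpace N k).sheaf) ((Scheme.Modules.pushforward ι).obj (Coh.structureModule X))]
  [HasInjectiveResolutions (ModSite.Mod (CohB1.ProjSpace N k).sheaf)] {ω : X.Modules}
  (eω : (Scheme.Modules.pushforward ι).obj ω ≅ (ModSite.extSh (O := (CohB1.ProjSpace N k).sheaf)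
      ((Scheme.Modules.pushforward ι).obj (Coh.structureModule X)) c).obj
        (Twist.twistProjSpace N k (-((N : ℤ) + 1))))

include eω in
theorem nonempty_stalk_equiv (x : X) :
    ∃ L : Ext (ModuleCat.of ((CohB1.ProjSpace N k).presheaf.stalk (ι x))
        (((Coh.push ι).obj (Coh.structureModule X)).presheaf.stalk (ι x)))
        (ModuleCat.of ((CohB1.ProjSpace N k).presheaf.stalk (ι x)) ((CohB1.ProjSpace N k).presheaf.stalk (ι x))) c ≃+
        ω.presheaf.stalk x, ∀ (r : (CohB1.ProjSpace N k).presheaf.stalk (ι x)) z,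
      L (r • z) = ι.stalkMap x r • L z := by
  haveI := Groth.L22.PDual.proper N k
  haveI := Groth.L21.RR.isNoetherian_of_proper (X := CohB1.ProjSpace N k) k
  haveI : IsLocallyNoetherian X := LocallyOfFiniteType.isLocallyNoetherian ι
  have hF : Coh.IsCoh ((Coh.push ι).obj (Coh.structureModule X)) :=
    Groth.L16.CohClosedPush.isCoh_push ι Groth.L16.CohClosedPush.isCoh_structure
  obtain ⟨e1⟩ := nonempty_ext_stalk_equiv hF (Twist.twistProjSpace N k (-((N : ℤ) + 1))) (ι x) c
  obtain ⟨eR⟩ := Groth.L22.PDual.nonempty_stalk_ω (n := N) (k := k) (ι x)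
  obtain ⟨e2⟩ := nonempty_ext_congr_right (N := ModuleCat.of ((CohB1.ProjSpace N k).presheaf.stalk (ι x))
    (((Coh.push ι).obj (Coh.structureModule X)).presheaf.stalk (ι x))) eR.toModuleIso c
  let e3 := ((Groth.L00.Stk.F (CohB1.ProjSpace N k) (ι x)).mapIso eω.symm).toLinearEquiv
  let L0 := e2.symm ≪≫ₗ e1 ≪≫ₗ e3
  exact ⟨L0.toAddEquiv.trans (AddEquiv.ofBijective _ (Groth.L17.ClosedPush.c₀_bijective ι ω x)), fun r z =>
    (congrArg (Groth.L17.ClosedPush.c₀ ι ω x) (L0.map_smul r z)).trans
      (Groth.L17.ClosedPush.c₀_smul ι ω x r (L0 z))⟩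

include eω hn hnc in
/-- Regular elements act injectively on the stalks. -/
theorem torsion_eq_bot (x : X) : Submodule.torsion (X.presheaf.stalk x) (ω.presheaf.stalk x) = ⊥ := by
  haveI := Groth.L22.PDual.proper N k
  haveI := Groth.L21.RR.isNoetherian_of_proper (X := CohB1.ProjSpace N k) k
  haveI : IsLocallyNoetherian X := LocallyOfFiniteType.isLocallyNoetherian ι
  obtain ⟨L, hL⟩ := nonempty_stalk_equiv ι eω x
  refine eq_bot_iff.2 fun v hv => ?_
  obtain ⟨⟨a, ha⟩, hav⟩ := hv
  obtain ⟨r, rfl⟩ := ι.stalkMap_surjective x a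
  obtain ⟨z, rfl⟩ := L.surjective v
  have h0 : r • z = 0 := L.injective (by rw [hL, map_zero]; exact hav)
  let R := (CohB1.ProjSpace N k).presheaf.stalk (ι x)
  let M : Type u := ((Coh.push ι).obj (Coh.structureModule X)).presheaf.stalk (ι x)
  haveI : IsRegularLocalRing R := Groth.L22.PDual.regular_stalk (ι x)
  obtain ⟨b, hb⟩ : ∃ b : ℕ, ringKrullDim R = b := ⟨_, ((isRegularLocalRing_iff R).1 inferInstance).symm⟩
  haveI : Module.Finite R M := Groth.L06.SupportStalk.finite_stalk _
    (Groth.L16.CohClosedPush.isCoh_push ι Groth.L16.CohClosedPush.isCoh_structure) (ι x)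
  obtain ⟨cc, hcc, hcs⟩ := exists_c₀_structure ι x
  have hreg : IsSMulRegular M r := by
    intro m m' h
    refine hcc.1 ?_
    have h' := congrArg cc h
    simp only [hcs] at h'
    exact (mul_cancel_left_mem_nonZeroDivisors ha).1 h'
  suffices z = 0 by rw [this, map_zero]; exact Submodule.zero_mem _
  by_cases hu : r ∈ maximalIdeal R
  · have hlt : Module.supportDim R (QuotSMulTop r M) + (c : WithBot ℕ∞) < b := by
      have h1 := supportDim_add_le ι hn hnc x hb
      have h2 := Module.supportDim_quotSMulTop_succ_eq_supportDim_mem_jacobson hreg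
        (maximalIdeal_le_jacobson _ hu)
      rw [← h2] at h1
      generalize Module.supportDim R (QuotSMulTop r M) = d at h1 ⊢
      cases d with
      | bot => rw [WithBot.bot_add]; exact WithBot.bot_lt_coe _
      | coe d =>
        cases d with
        | top =>
          rw [show ((⊤ : ℕ∞) : WithBot ℕ∞) + 1 + (c : WithBot ℕ∞) = ((⊤ + 1 + c : ℕ∞) : WithBot ℕ∞) from rfl,
            top_add, top_add] at h1
          exact absurd (WithBot.coe_le_coe.1 h1) (by simp)
        | coe d =>
          have h3 : d + 1 + c ≤ b := by exact_mod_cast h1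
          exact_mod_cast (show d + c < b by omega)
    haveI : Module.Finite R (QuotSMulTop r M) :=
      inferInstanceAs (Module.Finite R (M ⧸ (r • ⊤ : Submodule R M)))
    exact smul_ext_injective (N := ModuleCat.of R M) hreg
      (subsingleton_ext_of_supportDim_lt hb (QuotSMulTop r M) hlt) (h0.trans (smul_zero r).symm)
  · exact (IsLocalRing.notMem_maximalIdeal.1 hu).smul_eq_zero.1 h0

include eω hnc in
/-- Rank one at the generic points of components of dimension `n`. -/
theorem finrank_eq_one [IsReduced X] (x : X) (hx : closure ({x} : Set ↥X) ∈ irreducibleComponents ↥X)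
    (hd : topologicalKrullDim ↥(closure ({x} : Set ↥X)) = (n : WithBot ℕ∞)) :
    Module.finrank (X.presheaf.stalk x) (ω.presheaf.stalk x) = 1 := by
  haveI := Groth.L22.PDual.proper N k
  haveI := Groth.L21.RR.isNoetherian_of_proper (X := CohB1.ProjSpace N k) k
  letI : (CohB1.ProjSpace N k).Over (Spec (CommRingCat.of k)) := ⟨CohB1.ProjSpace.toSpec N k⟩
  haveI : LocallyOfFiniteType (CohB1.ProjSpace N k ↘ Spec (CommRingCat.of k)) :=
    inferInstanceAs (LocallyOfFiniteType (CohB1.ProjSpace.toSpec N k))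
  let P := CohB1.ProjSpace N k
  let R := P.presheaf.stalk (ι x)
  haveI : IsRegularLocalRing R := Groth.L22.PDual.regular_stalk (ι x)
  -- the dimension of the local ring
  obtain ⟨a, b, ha, hb, hloc⟩ := Groth.L22.SchemeDim.exists_localDim k P (ι x)
  obtain ⟨m, hm, htr⟩ := Groth.L22.SchemeDim.exists_dim_closure_eq_trdeg k P (ι x)
  obtain rfl : a = m := by exact_mod_cast ha.symm.trans htr
  have han : a = n := by
    have him : ι '' closure ({x} : Set ↥X) = closure {ι x} := by
      rw [← ι.isClosedEmbedding.closure_image_eq, Set.image_singleton]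
    have e := IsHomeomorph.topologicalKrullDim_eq _
      (ι.isClosedEmbedding.isEmbedding.homeomorphImage (closure ({x} : Set ↥X))).isHomeomorph
    rw [him, hm, hd] at e
    exact_mod_cast e.symm
  have h1 : (N : WithBot ℕ∞) ≤ FlatMor.localDim P (ι x) := le_localDim_of_equidim k (fun Z hZ => by
    rw [irreducibleComponents_eq_singleton, Set.mem_singleton_iff] at hZ
    subst hZ
    rw [IsHomeomorph.topologicalKrullDim_eq _ (Homeomorph.Set.univ _).isHomeomorph]
    exact Groth.L16.ProjSpace.topologicalKrullDim_eq_of_field N k) (ι x)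
  have h2 : FlatMor.localDim P (ι x) ≤ (N : WithBot ℕ∞) :=
    (iInf_le_of_le ⟨⊤, trivial⟩ (topologicalKrullDim_subspace_le _ _)).trans
      (Groth.L16.ProjSpace.topologicalKrullDim_eq_of_field N k).le
  rw [hloc] at h1 h2
  have hbc : b = c := by
    have h1' : N ≤ a + b := by exact_mod_cast h1
    have h2' : a + b ≤ N := by exact_mod_cast h2
    omega
  subst hbc
  have hA := isField_stalk_of_component hx
  obtain ⟨L, hL⟩ := nonempty_stalk_equiv ι eω x
  obtain ⟨cc, hcc, hcs⟩ := exists_c₀_structure ι x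
  -- the stalk is the residue field
  let φ : R →+* X.presheaf.stalk x := (ι.stalkMap x).hom
  have hker : RingHom.ker φ = maximalIdeal R := by
    refine IsLocalRing.eq_maximalIdeal ?_
    letI := hA.toField
    exact RingHom.ker_isMaximal_of_surjective φ (ι.stalkMap_surjective x)
  obtain ⟨m₀, hm₀⟩ := hcc.2 1
  let T : R →ₗ[R] ((Coh.push ι).obj (Coh.structureModule X)).presheaf.stalk (ι x) := LinearMap.toSpanSingleton R _ m₀
  have hTs : Function.Surjective T := fun m => by
    obtain ⟨r, hr⟩ := ι.stalkMap_surjective x (cc m)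
    exact ⟨r, hcc.1 (by rw [LinearMap.toSpanSingleton_apply, hcs, hm₀, mul_one]; exact hr)⟩
  have hTk : LinearMap.ker T = maximalIdeal R := by
    rw [← hker]
    ext r
    rw [LinearMap.mem_ker, RingHom.mem_ker, LinearMap.toSpanSingleton_apply, ← (hcc.1).eq_iff, map_zero, hcs, hm₀,
      mul_one]
  let eM : ResidueField R ≃ₗ[R] ((Coh.push ι).obj (Coh.structureModule X)).presheaf.stalk (ι x) :=
    (Submodule.quotEquivOfEq _ _ hTk.symm) ≪≫ₗ T.quotKerEquivOfSurjective hTs
  obtain ⟨eE⟩ := nonempty_ext_congr_left (M := ModuleCat.of R R) eM.toModuleIso b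
  obtain ⟨g, hg0, hg⟩ := exists_generator_ext_residueField (R := R) hb
  have hv0 : L (eE g) ≠ 0 := fun h => hg0 (eE.map_eq_zero_iff.1 (L.injective (h.trans (map_zero L).symm)))
  have hbij : Function.Bijective (LinearMap.toSpanSingleton (X.presheaf.stalk x) (ω.presheaf.stalk x) (L (eE g))) := by
    refine ⟨(injective_iff_map_eq_zero _).2 fun s hs => ?_, fun v => ?_⟩
    · by_contra hne
      obtain ⟨t, ht⟩ := hA.mul_inv_cancel hne
      refine hv0 ?_
      rw [← one_smul (X.presheaf.stalk x) (L (eE g)), ← ht, mul_comm, mul_smul]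
      rw [LinearMap.toSpanSingleton_apply] at hs
      rw [hs, smul_zero]
    · obtain ⟨z, rfl⟩ := L.surjective v
      obtain ⟨r, hr⟩ := hg (eE.symm z)
      exact ⟨ι.stalkMap x r, by rw [LinearMap.toSpanSingleton_apply, ← hL, ← map_smul, hr, eE.apply_symm_apply]⟩
  rw [← (LinearEquiv.ofBijective _ hbij).finrank_eq]
  exact Module.finrank_self _

end Groth.L22.ExtSh
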