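import Groth.Agent.L22.ExtSh.Vanish
import Groth.Agent.L04.SupportSh.DepthStalk
import Groth.Agent.L16.CohClosedPush
import Groth.Agent.L06.SupportStalk

/-!
Depth of stalks along a closed set and the vanishing of Ext into the module.
-/

set_option autoImplicit false
set_option backward.isDefEq.respectTransparency false
set_option linter.style.haveILetI false
universe u

open CategoryTheory CategoryTheory.Limits CategoryTheory.Abelian AlgebraicGeometry TopologicalSpace Opposite
open IsLocalRing RingTheory.Sequence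

noncomputable section

namespace Groth.L22.ExtSh

variable {R : Type u} [CommRing R] [IsNoetherianRing R]

theorem subsingleton_ext_of_depth {N M : Type u} [AddCommGroup N] [Module R N]
    [AddCommGroup M] [Module R M] [Module.Finite R N] [Module.Finite R M] {n : ℕ}
    (hn : (n : ℕ∞) ≤ LocCoh.idealDepth (Module.annihilator R N) M) {i : ℕ} (hi : i < n) :
    Subsingleton (Ext (ModuleCat.of R N) (ModuleCat.of R M) i) := by
  rcases eq_or_ne (Module.annihilator R N • (⊤ : Submodule R M)) ⊤ with h | h
  · obtain ⟨a, ha, hm⟩ := Groth.L04.exists_smul_eq_self h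
    exact Groth.L04.subsingleton_ext_of_smul_eq_self (N := ModuleCat.of R N) ha hm i
  · obtain ⟨rs, hlen, hrs, hI⟩ := Groth.L04.exists_of_le_idealDepth h hn
    exact ModuleCat.subsingleton_ext_of_exists_isRegular (Module.annihilator R N) (ModuleCat.of R N)
      (by rw [Module.support_eq_zeroLocus]) (ModuleCat.of R M) h.lt_top rs hI
      (Groth.L04.isRegular_of_isWeaklyRegular h hrs hI) i (hlen ▸ hi)

theorem le_depth_of_subsingleton_ext [IsLocalRing R] {N M : Type u} [AddCommGroup N] [Module R N]
    [AddCommGroup M] [Module R M] [Module.Finite R N] [Module.Finite R M] [Nontrivial N] {n : ℕ}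
    (h : ∀ i < n, Subsingleton (Ext (ModuleCat.of R N) (ModuleCat.of R M) i)) :
    (n : ℕ∞) ≤ LocCoh.depth R M := by
  rw [LocCoh.depth]
  rcases eq_or_ne (maximalIdeal R • (⊤ : Submodule R M)) ⊤ with hM | hM
  · rw [Groth.L04.idealDepth_eq_top hM]; exact le_top
  have hI : Module.annihilator R N ≤ maximalIdeal R := le_maximalIdeal fun he => by
    rw [Module.annihilator_eq_top_iff] at he
    exact not_subsingleton N he
  have hIM : Module.annihilator R N • (⊤ : Submodule R M) ≠ ⊤ := fun he =>
    hM (top_le_iff.1 (he.ge.trans (Submodule.smul_mono_left hI)))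
  obtain ⟨rs, hlen, hI', hrs⟩ := ModuleCat.exists_isRegular_of_exists_subsingleton_ext
    (Module.annihilator R N) n (ModuleCat.of R M) hIM.lt_top (ModuleCat.of R N)
    (by rw [Module.support_eq_zeroLocus]) h
  exact hlen ▸ Groth.L04.length_le_idealDepth hrs.1 fun r hr => hI (hI' r hr)

variable {X : Scheme.{u}} [IsLocallyNoetherian X]

/-- Vanishing of Ext into a module of large depth along the support. -/
theorem subsingleton_ext_stalk_of_depth {G F : X.Modules} (hG : Coh.IsCoh G) (hF : Coh.IsCoh F) {n : ℕ}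
    (h : ∀ y ∈ CohB1.support G, (n : ℕ∞) ≤ LocCoh.depth (X.presheaf.stalk y) (F.presheaf.stalk y))
    (x : X) {i : ℕ} (hi : i < n) :
    Subsingleton (Ext (ModuleCat.of (X.presheaf.stalk x) (G.presheaf.stalk x))
      (ModuleCat.of (X.presheaf.stalk x) (F.presheaf.stalk x)) i) := by
  obtain ⟨V, hV, hx, -⟩ := exists_isAffineOpen_mem_and_subset (x := x) (U := ⊤) trivial
  haveI : Coh.IsQCoh G := hG.1
  haveI : Coh.IsQCoh F := hF.1
  haveI := IsLocallyNoetherian.component_noetherian ⟨V, hV⟩
  haveI := Groth.L20.ModStalk.finite_sections G hG hV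
  haveI := Groth.L20.ModStalk.finite_sections F hF hV
  haveI := Groth.L06.SupportStalk.finite_stalk G hG x
  haveI := Groth.L06.SupportStalk.finite_stalk F hF x
  let A : Type u := Γ(X, V)
  let p := (hV.primeIdealOf ⟨x, hx⟩).asIdeal
  have hdep : (n : ℕ∞) ≤ LocCoh.idealDepth (Module.annihilator Γ(X, V) Γ(G, V)) Γ(F, V) := by
    rw [Groth.L04.idealDepth_eq_iInf_depth, le_iInf₂_iff]
    intro q hq
    have hy : hV.fromSpec q ∈ V := hV.opensRange_fromSpec.le ⟨q, rfl⟩
    have hqe : hV.primeIdealOf ⟨hV.fromSpec q, hy⟩ = q :=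
      hV.fromSpec.isOpenEmbedding.injective (hV.fromSpec_primeIdealOf _)
    have hd := h (hV.fromSpec q) ?_
    · rw [Groth.L04.SupportSh.depth_stalk_eq F hF hV hy] at hd
      rwa [hqe] at hd
    · letI := Groth.L20.ModStalk.stalkModule G hy
      haveI := Groth.L20.ModStalk.isLocalizedModule_germ G hV hy
      let e := IsLocalizedModule.iso (hV.primeIdealOf ⟨hV.fromSpec q, hy⟩).asIdeal.primeCompl
        (Groth.L20.ModStalk.germₗ G hy)
      have hmem : hV.primeIdealOf ⟨hV.fromSpec q, hy⟩ ∈ Module.support Γ(X, V) Γ(G, V) := by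
        rw [Module.support_eq_zeroLocus, PrimeSpectrum.mem_zeroLocus, hqe]
        exact hq
      haveI := Module.mem_support_iff.1 hmem
      haveI : Nontrivial (G.presheaf.stalk (hV.fromSpec q)) := e.symm.toEquiv.nontrivial
      exact not_subsingleton (G.presheaf.stalk (hV.fromSpec q))
  letI := X.presheaf.algebra_section_stalk ⟨x, hx⟩
  haveI := hV.isLocalization_stalk ⟨x, hx⟩
  letI := Groth.L20.ModStalk.stalkModule G hx
  letI := Groth.L20.ModStalk.stalkModule F hx
  haveI : IsScalarTower Γ(X, V) (X.presheaf.stalk x) (G.presheaf.stalk x) := ⟨fun a s m => mul_smul _ s m⟩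
  haveI : IsScalarTower Γ(X, V) (X.presheaf.stalk x) (F.presheaf.stalk x) := ⟨fun a s m => mul_smul _ s m⟩
  haveI := Groth.L20.ModStalk.isLocalizedModule_germ G hV hx
  haveI := Groth.L20.ModStalk.isLocalizedModule_germ F hV hx
  have hann : ∀ a ∈ Module.annihilator Γ(X, V) Γ(G, V),
      algebraMap Γ(X, V) (X.presheaf.stalk x) a ∈ Module.annihilator (X.presheaf.stalk x) (G.presheaf.stalk x) :=
    fun a ha => Module.mem_annihilator.2 fun z => by
      obtain ⟨⟨m, s⟩, rfl⟩ := IsLocalizedModule.mk'_surjective p.primeCompl (Groth.L20.ModStalk.germₗ G hx) z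
      rw [algebraMap_smul, Function.uncurry_apply_pair, ← IsLocalizedModule.mk'_smul,
        Module.mem_annihilator.1 ha m, IsLocalizedModule.mk'_zero]
  refine subsingleton_ext_of_depth ?_ hi
  rcases eq_or_ne (Module.annihilator Γ(X, V) Γ(G, V) • (⊤ : Submodule Γ(X, V) Γ(F, V))) ⊤ with h0 | h0
  · obtain ⟨a, ha, hm⟩ := Groth.L04.exists_smul_eq_self h0
    rw [Groth.L04.idealDepth_eq_top]
    · exact le_top
    rw [eq_top_iff]
    intro z _
    obtain ⟨⟨m, s⟩, rfl⟩ := IsLocalizedModule.mk'_surjective p.primeCompl (Groth.L20.ModStalk.germₗ F hx) z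
    rw [Function.uncurry_apply_pair, ← hm m, IsLocalizedModule.mk'_smul,
      ← algebraMap_smul (X.presheaf.stalk x) a]
    exact Submodule.smul_mem_smul (hann a ha) trivial
  · obtain ⟨rs, hlen, hrs, hI⟩ := Groth.L04.exists_of_le_idealDepth h0 hdep
    have h1 := hrs.of_isLocalizedModule (X.presheaf.stalk x) p.primeCompl (Groth.L20.ModStalk.germₗ F hx)
    refine le_trans (le_of_eq ?_) (Groth.L04.length_le_idealDepth h1 fun r hr => ?_)
    · rw [List.length_map, hlen]
    · obtain ⟨r, hr', rfl⟩ := List.mem_map.1 hr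
      exact hann r (hI r hr')

theorem le_depth_of_isZero_extSh {G F : X.Modules} (hG : Coh.IsCoh G) (hF : Coh.IsCoh F) {n : ℕ}
    [ModSite.HasSheafHom (O := X.sheaf) G] [HasInjectiveResolutions (ModSite.Mod X.sheaf)]
    (h : ∀ i : ℕ, i < n → IsZero ((ModSite.extSh (O := X.sheaf) G i).obj F)) {x : X}
    (hx : x ∈ CohB1.support G) :
    (n : ℕ∞) ≤ LocCoh.depth (X.presheaf.stalk x) (F.presheaf.stalk x) := by
  haveI := Groth.L06.SupportStalk.finite_stalk G hG x
  haveI := Groth.L06.SupportStalk.finite_stalk F hF x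
  haveI : Nontrivial (G.presheaf.stalk x) := not_subsingleton_iff_nontrivial.1 hx
  exact le_depth_of_subsingleton_ext fun i hi => (isZero_extSh_iff hG F i).1 (h i hi) x

/-- A coherent module supported in the closure of a point and nonzero there. -/
theorem exists_coh_support (x : X) :
    ∃ G : X.Modules, Coh.IsCoh G ∧ CohB1.support G ⊆ closure {x} ∧ x ∈ CohB1.support G := by
  obtain ⟨Z, i, hi, hZ, hgen, hrange⟩ := Groth.L16.CohClosedPush.exists_integral x
  haveI : IsLocallyNoetherian Z := LocallyOfFiniteType.isLocallyNoetherian i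
  refine ⟨_, Groth.L16.CohClosedPush.isCoh_push i Groth.L16.CohClosedPush.isCoh_structure,
    (Groth.L16.CohClosedPush.support_push_subset i (Coh.structureModule Z)).trans hrange.le, ?_⟩
  by_contra hne
  have h1 := (Groth.L16.CohSupport.len_eq_zero_iff x _).2 hne
  rw [← hgen, Groth.L16.CohClosedPush.len_push_structure i] at h1
  exact one_ne_zero h1

end Groth.L22.ExtSh
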