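import Groth.Agent.L04.RegularPd
import Groth.Agent.L22.ExtSh.DepthExt
import Mathlib.Algebra.Category.ModuleCat.Ext.Basic
import Mathlib.RingTheory.Depth.Rees

/-!
`Ext^d(k, R) ≅ k` for a regular local ring of dimension `d`, and regular multiplications on the lowest Ext.
-/

set_option autoImplicit false
set_option backward.isDefEq.respectTransparency false
set_option linter.style.haveILetI false
universe u

open CategoryTheory CategoryTheory.Limits CategoryTheory.Abelian
open IsLocalRing RingTheory.Sequence
open scoped Pointwise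

noncomputable section

namespace Groth.L22.ExtSh

variable {R : Type u} [CommRing R]

theorem smul_eq_mk₀_comp {N M : ModuleCat.{u} R} {i : ℕ} (a : R) (z : Ext N M i) :
    a • z = (Ext.mk₀ (a • 𝟙 N)).comp z (zero_add i) := by
  rw [Ext.mk₀_smul, Ext.smul_comp, Ext.mk₀_id_comp]

/-- A scalar regular on `N` is regular on `Ext^c(N, M)` when `Ext^c(N/aN, M) = 0`. -/
theorem smul_ext_injective {N M : ModuleCat.{u} R} {c : ℕ} {a : R} (ha : IsSMulRegular N a)
    (h : Subsingleton (Ext (ModuleCat.of R (QuotSMulTop a N)) M c)) :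
    Function.Injective fun z : Ext N M c => a • z := by
  intro z w hzw
  rw [← sub_eq_zero]
  have h0 : a • (z - w) = 0 := by rw [smul_sub, sub_eq_zero]; exact hzw
  obtain ⟨y, hy⟩ := Ext.contravariant_sequence_exact₂ ha.smulShortComplex_shortExact M (z - w)
    (h0 ▸ (by rw [ModuleCat.smulShortComplex_f_eq_smul_id]; exact (smul_eq_mk₀_comp a (z - w)).symm))
  rw [← hy, @Subsingleton.elim _ h y 0, Ext.comp_zero]


/-- The first nonvanishing Ext of the residue field. -/
theorem nonempty_ext_residueField [IsLocalRing R] [IsNoetherianRing R] : ∀ (rs : List R) (M : ModuleCat.{u} R), Module.Finite R M →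
    IsRegular M rs → (∀ r ∈ rs, r ∈ maximalIdeal R) →
    Nonempty (Ext (ModuleCat.of R (ResidueField R)) M rs.length ≃ₗ[R]
      (ResidueField R →ₗ[R] (M ⧸ (Ideal.ofList rs • ⊤ : Submodule R M))))
  | [], M, _, _, _ => by
    refine ⟨Ext.linearEquiv₀ ≪≫ₗ ModuleCat.homLinearEquiv ≪≫ₗ LinearEquiv.congrRight ?_⟩
    exact (Submodule.quotEquivOfEqBot _ (by rw [Ideal.ofList_nil, Submodule.bot_smul])).symm
  | a :: rs, M, hM, hreg, hmem => by
    haveI := hM
    obtain ⟨ha, hreg'⟩ := (isRegular_cons_iff M a rs).1 hreg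
    obtain ⟨e⟩ := nonempty_ext_residueField rs (ModuleCat.of R (QuotSMulTop a M))
      (inferInstanceAs (Module.Finite R (M ⧸ (a • ⊤ : Submodule R M)))) hreg'
      (fun r hr => hmem r (List.mem_cons_of_mem _ hr))
    have hS := ha.smulShortComplex_shortExact
    let K := ModuleCat.of R (ResidueField R)
    let δ : Ext K (ModuleCat.of R (QuotSMulTop a M)) rs.length →ₗ[R] Ext K M (rs.length + 1) :=
      Ext.postcompOfLinear hS.extClass R K rfl
    haveI : Subsingleton (Ext K M rs.length) := by
      haveI : Nontrivial M := hreg.nontrivial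
      exact ModuleCat.subsingleton_ext_of_exists_isRegular (maximalIdeal R) K
        (by
          rw [Module.support_eq_zeroLocus, show Module.annihilator R K = maximalIdeal R from
            Ideal.annihilator_quotient])
        M (lt_top_iff_ne_top.2 (ne_of_eq_of_ne rfl
          (Submodule.top_ne_ideal_smul_of_le_jacobson_annihilator (maximalIdeal_le_jacobson _)).symm))
        (a :: rs) hmem hreg rs.length (by simp)
    have hδ : Function.Bijective δ := by
      refine ⟨fun z w hzw => ?_, fun y => ?_⟩
      · rw [← sub_eq_zero]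
        have h0 : (z - w).comp hS.extClass rfl = 0 := by
          have := sub_eq_zero.2 hzw
          rwa [← map_sub] at this
        obtain ⟨v, hv⟩ := Ext.covariant_sequence_exact₃ K hS (z - w) rfl h0
        rw [← hv, @Subsingleton.elim (Ext K M rs.length) inferInstance v 0, Ext.zero_comp]
      · refine Ext.covariant_sequence_exact₁ K hS y ?_ rfl
        rw [ModuleCat.smulShortComplex_f_eq_smul_id, Ext.mk₀_smul, Ext.comp_smul]
        erw [Ext.comp_mk₀_id]
        rw [smul_eq_mk₀_comp, show a • 𝟙 K = 0 from ModuleCat.hom_ext (LinearMap.ext fun v => ?_), Ext.mk₀_zero,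
          Ext.zero_comp]
        show a • v = 0
        obtain ⟨v, rfl⟩ := IsLocalRing.residue_surjective v
        exact (Ideal.Quotient.eq_zero_iff_mem.2 (Ideal.mul_mem_right v _ (hmem a List.mem_cons_self)))
    exact ⟨(LinearEquiv.ofBijective δ hδ).symm ≪≫ₗ e ≪≫ₗ
      LinearEquiv.congrRight (Submodule.quotOfListConsSMulTopEquivQuotSMulTopInner M a rs).symm⟩

/-- `Ext^d(k, R)` is generated by one element. -/
theorem exists_generator_ext_residueField [IsRegularLocalRing R] {d : ℕ} (hd : ringKrullDim R = d) :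
    ∃ g : Ext (ModuleCat.of R (ResidueField R)) (ModuleCat.of R R) d,
      g ≠ 0 ∧ ∀ z, ∃ r : R, r • g = z := by
  obtain ⟨rs, rfl, hreg, hgen⟩ := Groth.L04.exists_regular_generators hd
  obtain ⟨e⟩ := nonempty_ext_residueField rs (ModuleCat.of R R) inferInstance hreg
    (fun r hr => hgen ▸ Ideal.subset_span hr)
  let q : (R ⧸ (Ideal.ofList rs • ⊤ : Submodule R R)) ≃ₗ[R] ResidueField R :=
    Submodule.quotEquivOfEq _ _ (by rw [hgen, Ideal.smul_top_eq_map]; simp)
  let e' := e ≪≫ₗ LinearEquiv.congrRight q
  refine ⟨e'.symm LinearMap.id, fun h => ?_, fun z => ?_⟩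
  · have := LinearMap.congr_fun ((e'.symm.map_eq_zero_iff).1 h) 1
    exact one_ne_zero this
  · obtain ⟨r, hr⟩ := IsLocalRing.residue_surjective (e' z 1)
    refine ⟨r, e'.injective ?_⟩
    rw [map_smul, LinearEquiv.apply_symm_apply]
    refine LinearMap.ext fun v => ?_
    obtain ⟨v, rfl⟩ := IsLocalRing.residue_surjective v
    have h1 : residue R v = v • (1 : ResidueField R) := by
      rw [Algebra.smul_def, mul_one]; rfl
    rw [h1, map_smul, map_smul, LinearMap.smul_apply, LinearMap.id_apply]
    congr 1
    rw [← hr, Algebra.smul_def, mul_one]; rfl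

end Groth.L22.ExtSh
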