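import Groth.Agent.L22.ExtSh.StalkExt
import Groth.Agent.L18.LocFreeTilde
import Mathlib.Algebra.Homology.DerivedCategory.Ext.MapBijective

/-!
Vanishing of Ext sheaves, read at the stalks.
-/

set_option autoImplicit false
set_option backward.isDefEq.respectTransparency false
set_option linter.style.haveILetI false
universe u

open CategoryTheory CategoryTheory.Limits CategoryTheory.Abelian AlgebraicGeometry TopologicalSpace Opposite

noncomputable section

namespace Groth.L22.ExtSh

/-- Restriction along an isomorphism of rings does not change the vanishing of Ext. -/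
theorem ext_restr_iff {R' R : Type u} [CommRing R'] [CommRing R] (e : R' ≃+* R) (A B : ModuleCat.{u} R) (i : ℕ) :
    Subsingleton (Ext ((ModuleCat.restrictScalars.{u} e.toRingHom).obj A)
      ((ModuleCat.restrictScalars.{u} e.toRingHom).obj B) i) ↔ Subsingleton (Ext A B i) := by
  let F := ModuleCat.restrictScalars.{u} e.toRingHom
  haveI : F.IsEquivalence := (ModuleCat.restrictScalarsEquivalenceOfRingEquiv e).isEquivalence_functor
  haveI : F.PreservesInjectiveObjects :=
    ⟨fun {I} hI => (Equivalence.map_injective_iff F.asEquivalence I).2 hI⟩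
  have h := F.mapExt_bijective_of_preservesInjectiveObjects A B i
  exact ⟨fun _ => h.1.subsingleton, fun _ => h.2.subsingleton⟩

variable {X : Scheme.{u}}

/-- An Ext sheaf vanishes iff the Ext modules of the stalks vanish. -/
theorem isZero_extSh_iff [IsLocallyNoetherian X] {F : X.Modules} (hF : Coh.IsCoh F) (G : X.Modules)
    [ModSite.HasSheafHom (O := X.sheaf) F] [HasInjectiveResolutions (ModSite.Mod X.sheaf)] (i : ℕ) :
    IsZero ((ModSite.extSh (O := X.sheaf) F i).obj G) ↔ ∀ x : X, Subsingleton
      (Ext (ModuleCat.of (X.presheaf.stalk x) (F.presheaf.stalk x))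
        (ModuleCat.of (X.presheaf.stalk x) (G.presheaf.stalk x)) i) := by
  refine (Groth.L00.Stk.isZero_iff _).trans (forall_congr' fun x => ?_)
  obtain ⟨e⟩ := nonempty_stalk_extSh F hF G x i
  refine Iff.trans ?_ (ext_restr_iff (ringIso x).commRingCatIsoToRingEquiv
    ((Groth.L00.Stk.F X x).obj F) ((Groth.L00.Stk.F X x).obj G) i)
  constructor
  · intro h
    haveI : Subsingleton ((stkS x).obj ((ModSite.extSh (O := X.sheaf) F i).obj G)) :=
      ModuleCat.subsingleton_of_isZero ((ModuleCat.restrictScalars (rho x)).map_isZero h)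
    exact e.symm.toEquiv.subsingleton
  · intro h
    haveI : Subsingleton ((Groth.L00.Stk.F X x).obj ((ModSite.extSh (O := X.sheaf) F i).obj G)) :=
      (show Subsingleton ((stkS x).obj ((ModSite.extSh (O := X.sheaf) F i).obj G)) from
        @Equiv.subsingleton _ _ e.toEquiv h)
    exact ModuleCat.isZero_of_subsingleton _

/-- Ext into a finite free module vanishes with Ext into the ring. -/
theorem subsingleton_ext_free_right {R : Type u} [CommRing R] (M : ModuleCat.{u} R) (L : Type u) [AddCommGroup L]
    [Module R L] [Module.Finite R L] [Module.Free R L] {i : ℕ} (h : Subsingleton (Ext M (ModuleCat.of R R) i)) :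
    Subsingleton (Ext M (ModuleCat.of R L) i) := by
  classical
  let b := Module.Free.chooseBasis R L
  haveI := Fintype.ofFinite (Module.Free.ChooseBasisIndex R L)
  have hid : 𝟙 (ModuleCat.of R L) = ∑ j, (ModuleCat.ofHom (b.coord j) : ModuleCat.of R L ⟶ ModuleCat.of R R) ≫
      (ModuleCat.ofHom (LinearMap.toSpanSingleton R L (b j)) : ModuleCat.of R R ⟶ ModuleCat.of R L) :=
    ModuleCat.hom_ext (LinearMap.ext fun v => by simp [b.sum_repr])
  refine subsingleton_of_forall_eq 0 fun z => ?_
  have hz := z.comp_mk₀_id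
  rw [hid, Ext.mk₀_sum, Ext.comp_sum] at hz
  rw [← hz]
  refine Finset.sum_eq_zero fun j _ => ?_
  rw [← Ext.mk₀_comp_mk₀, ← Ext.comp_assoc_of_second_deg_zero,
    Subsingleton.elim (z.comp (Ext.mk₀ _) (add_zero i)) 0, Ext.zero_comp]

/-- Vanishing into a vector bundle. -/
theorem isZero_extSh_of_isFinLocFree [IsLocallyNoetherian X] {F E : X.Modules} (hF : Coh.IsCoh F)
    (hE : FlatMod.IsFinLocFree E)
    [ModSite.HasSheafHom (O := X.sheaf) F] [HasInjectiveResolutions (ModSite.Mod X.sheaf)] (i : ℕ)
    (h : ∀ x : X, Subsingleton (Ext (ModuleCat.of (X.presheaf.stalk x) (F.presheaf.stalk x))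
      (ModuleCat.of (X.presheaf.stalk x) (X.presheaf.stalk x)) i)) :
    IsZero ((ModSite.extSh (O := X.sheaf) F i).obj E) := by
  refine (isZero_extSh_iff hF E i).2 fun x => ?_
  haveI := Groth.L18.LFP.finite_stalk E (Groth.L18.LFP.isFP_of_isFinLocFree E hE) x
  haveI := Groth.L18.LFP.free_stalk E hE x
  exact subsingleton_ext_free_right _ _ (h x)

end Groth.L22.ExtSh
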