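import Groth.Agent.L22.ExtSh.RestrictHom
import Groth.Agent.L22.ExtSh.Vanish
import Groth.Agent.L22.Reg.PullVan
import Groth.Agent.L29.DCoh.RHomCoh
import Groth.Agent.L29.DCoh.TensorPerfect
import Groth.Agent.L16.NegPow.Gen
import Groth.Agent.L18.LocFreeTilde

/-!
Coherence of the Ext sheaves of coherent modules.
-/

set_option autoImplicit false
set_option backward.isDefEq.respectTransparency false
set_option linter.style.haveILetI false
universe u

open CategoryTheory CategoryTheory.Limits CategoryTheory.Abelian AlgebraicGeometry TopologicalSpace Opposite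

noncomputable section

namespace Groth.L22.ExtSh

open Groth.L16.HomSh
open Groth.L22.PDual (pre' stalkHom)

variable {X : Scheme.{u}}

/-- Precomposition, as a natural transformation. -/
def preNat {M M' : X.Modules} (f : M ⟶ M') : homModF M' ⟶ homModF M where
  app N := pre' N f
  naturality _ _ g := hom_ext_ev fun _ _ _ _ _ => rfl

theorem shortExact_pre [IsLocallyNoetherian X] {S : ShortComplex X.Modules} (hS : S.ShortExact)
    (h₁ : Coh.IsCoh S.X₁) (h₂ : Coh.IsCoh S.X₂) (h₃ : Coh.IsCoh S.X₃) (I : X.Modules) [Injective I] :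
    (ShortComplex.mk (pre' I S.g) (pre' I S.f)
      (by rw [← Groth.L22.PDual.pre'_comp, S.zero, Groth.L22.PDual.pre'_zero])).ShortExact := by
  rw [Groth.L21.Mod.shortExact_iff_stalk]
  intro x
  haveI := injective_stalk I x
  have hSx := (Groth.L21.Mod.shortExact_iff_stalk S).1 hS x
  have hf : Function.Injective (RefHull.stalkMapₗ S.f x) :=
    (AddCommGrpCat.mono_iff_injective _).1 hSx.mono_f
  have hg : Function.Surjective (RefHull.stalkMapₗ S.g x) :=
    (AddCommGrpCat.epi_iff_surjective _).1 hSx.epi_g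
  have hfg : ∀ v, RefHull.stalkMapₗ S.g x v = 0 → ∃ w, RefHull.stalkMapₗ S.f x w = v :=
    (ShortComplex.ab_exact_iff _).1 hSx.exact
  have b₁ := bijective_stalkHom S.X₁ h₁ I x
  have b₂ := bijective_stalkHom S.X₂ h₂ I x
  have b₃ := bijective_stalkHom S.X₃ h₃ I x
  refine
    { exact := (ShortComplex.ab_exact_iff _).2 fun θ hθ => ?_
      mono_f := (AddCommGrpCat.mono_iff_injective _).2 ?_
      epi_g := (AddCommGrpCat.epi_iff_surjective _).2 ?_ }
  · have h0 : (stalkHom S.X₂ I x θ).comp (RefHull.stalkMapₗ S.f x) = 0 :=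
      (Groth.L22.PDual.stalkHom_pre' S.f x θ).symm.trans
        ((congrArg (stalkHom S.X₁ I x) hθ).trans (map_zero _))
    have hker : LinearMap.ker (RefHull.stalkMapₗ S.g x) ≤ LinearMap.ker (stalkHom S.X₂ I x θ) := fun v hv => by
      obtain ⟨w, rfl⟩ := hfg v hv
      exact LinearMap.congr_fun h0 w
    obtain ⟨θ₃, hθ₃⟩ := b₃.2 ((LinearMap.ker (RefHull.stalkMapₗ S.g x)).liftQ (stalkHom S.X₂ I x θ) hker ∘ₗ
      ((RefHull.stalkMapₗ S.g x).quotKerEquivOfSurjective hg).symm.toLinearMap)
    refine ⟨θ₃, b₂.1 ?_⟩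
    refine (Groth.L22.PDual.stalkHom_pre' S.g x θ₃).trans ?_
    rw [hθ₃]
    refine LinearMap.ext fun v => ?_
    have h1 : ((RefHull.stalkMapₗ S.g x).quotKerEquivOfSurjective hg).symm (RefHull.stalkMapₗ S.g x v) =
        Submodule.Quotient.mk v :=
      (LinearEquiv.symm_apply_eq _).2 rfl
    show (LinearMap.ker (RefHull.stalkMapₗ S.g x)).liftQ (stalkHom S.X₂ I x θ) hker
      (((RefHull.stalkMapₗ S.g x).quotKerEquivOfSurjective hg).symm (RefHull.stalkMapₗ S.g x v)) = _
    rw [h1, Submodule.liftQ_apply]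
  · intro θ θ' h
    refine b₃.1 (LinearMap.ext fun z => ?_)
    obtain ⟨v, rfl⟩ := hg z
    exact LinearMap.congr_fun ((Groth.L22.PDual.stalkHom_pre' S.g x θ).symm.trans
      ((congrArg (stalkHom S.X₂ I x) h).trans (Groth.L22.PDual.stalkHom_pre' S.g x θ'))) v
  · intro θ₁
    obtain ⟨ψ, hψ⟩ := Module.Injective.out _ hf (stalkHom S.X₁ I x θ₁)
    obtain ⟨θ₂, hθ₂⟩ := b₂.2 ψ
    refine ⟨θ₂, b₁.1 ((Groth.L22.PDual.stalkHom_pre' S.f x θ₂).trans ?_)⟩
    rw [hθ₂]
    exact LinearMap.ext hψ

theorem additive_homModF (F : X.Modules) : (homModF F).Additive := ⟨fun {_ _} {g g'} => post_add g g'⟩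

variable [HasInjectiveResolutions X.Modules]

/-- The derived sheaf of homomorphisms. -/
abbrev E (F G : X.Modules) (i : ℕ) : X.Modules :=
  haveI := additive_homModF F
  ((homModF F).rightDerived i).obj G

theorem nonempty_extSh_iso (F G : X.Modules) [ModSite.HasSheafHom (O := X.sheaf) F] (i : ℕ)
    [hI : HasInjectiveResolutions (ModSite.Mod X.sheaf)] :
    Nonempty ((ModSite.extSh (O := X.sheaf) F i).obj G ≅ E F G i) := by
  haveI : (homModF F).Additive := additive_homModF F
  haveI : (ModSite.sheafHom (O := X.sheaf) F).Additive := (ModSite.sheafHomAdj _).right_adjoint_additive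
  exact ⟨(Groth.L15.ModTensor.rdIso (homModSiteIso F) i).app G⟩

/-- The Ext sheaf in the middle is a cokernel when the next one of the free module vanishes. -/
theorem exists_cokernel_iso [IsLocallyNoetherian X] {S : ShortComplex X.Modules} (hS : S.ShortExact)
    (h₁ : Coh.IsCoh S.X₁) (h₂ : Coh.IsCoh S.X₂) (h₃ : Coh.IsCoh S.X₃) (G : X.Modules) (i : ℕ)
    (h0 : IsZero (E S.X₂ G (i + 1))) :
    ∃ f : E S.X₂ G i ⟶ E S.X₁ G i, Nonempty (cokernel f ≅ E S.X₃ G (i + 1)) := by
  let I := injectiveResolution G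
  let Φ : ∀ M : X.Modules, CochainComplex X.Modules ℕ := fun M =>
    haveI := additive_homModF M
    ((homModF M).mapHomologicalComplex _).obj I.cocomplex
  haveI := additive_homModF S.X₁
  haveI := additive_homModF S.X₂
  haveI := additive_homModF S.X₃
  let T : ShortComplex (CochainComplex X.Modules ℕ) :=
    ShortComplex.mk (X₁ := Φ S.X₃) (X₂ := Φ S.X₂) (X₃ := Φ S.X₁)
      ((NatTrans.mapHomologicalComplex (preNat S.g) _).app I.cocomplex)
      ((NatTrans.mapHomologicalComplex (preNat S.f) _).app I.cocomplex) (by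
        refine HomologicalComplex.hom_ext _ _ fun j => ?_
        show pre' (I.cocomplex.X j) S.g ≫ pre' (I.cocomplex.X j) S.f = 0
        rw [← Groth.L22.PDual.pre'_comp, S.zero, Groth.L22.PDual.pre'_zero])
  have hT : T.ShortExact := HomologicalComplex.shortExact_of_degreewise_shortExact _ fun j =>
    shortExact_pre hS h₁ h₂ h₃ (I.cocomplex.X j)
  let e : ∀ (M : X.Modules) (j : ℕ), E M G j ≅ (Φ M).homology j := fun M j =>
    haveI := additive_homModF M
    I.isoRightDerivedObj (homModF M) j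
  let f : E S.X₂ G i ⟶ E S.X₁ G i := (e S.X₂ i).hom ≫ HomologicalComplex.homologyMap T.g i ≫ (e S.X₁ i).inv
  let d : E S.X₁ G i ⟶ E S.X₃ G (i + 1) := (e S.X₁ i).hom ≫ hT.δ i (i + 1) rfl ≫ (e S.X₃ (i + 1)).inv
  have hz : IsZero (T.X₂.homology (i + 1)) := h0.of_iso (e S.X₂ (i + 1)).symm
  have hepi : Epi (hT.δ i (i + 1) rfl) :=
    (hT.homology_exact₁ i (i + 1) rfl).epi_f (hz.eq_of_tgt _ _)
  have w : f ≫ d = 0 := by
    simp only [f, d, Category.assoc, Iso.inv_hom_id_assoc, reassoc_of% (hT.comp_δ i (i + 1) rfl), zero_comp,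
      comp_zero]
  refine ⟨f, ⟨?_⟩⟩
  have hex : (ShortComplex.mk f d w).Exact :=
    ShortComplex.exact_of_iso (ShortComplex.isoMk (e S.X₂ i).symm (e S.X₁ i).symm (e S.X₃ (i + 1)).symm
      (by simp [f]) (by simp [d])) (hT.homology_exact₃ i (i + 1) rfl)
  haveI : Epi d := by
    haveI := hepi
    exact epi_comp _ _
  exact (cokernelIsCokernel f).coconePointUniqueUpToIso hex.gIsCokernel

theorem isCoh_E_zero [IsLocallyNoetherian X] {F G : X.Modules} (hF : Coh.IsCoh F) (hG : Coh.IsCoh G) :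
    Coh.IsCoh (E F G 0) := by
  haveI := additive_homModF F
  haveI := (tensorHomAdj F).isRightAdjoint
  haveI : PreservesFiniteLimits (homModF F) := inferInstance
  exact Groth.L16.CohSupport.isCoh_of_iso ((homModF F).rightDerivedZeroIsoSelf.app G).symm
    (isCoh_homMod hF hG)

theorem isZero_E_free [IsLocallyNoetherian X] {P : X.Modules} (hPc : Coh.IsCoh P) (hP : FlatMod.IsFinLocFree P)
    (G : X.Modules) (i : ℕ) : IsZero (E P G (i + 1)) := by
  haveI := Groth.L17.Duality.hasSheafHom P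
  haveI : HasInjectiveResolutions (ModSite.Mod X.sheaf) := ‹HasInjectiveResolutions X.Modules›
  obtain ⟨e⟩ := nonempty_extSh_iso P G (i + 1)
  refine IsZero.of_iso ?_ e.symm
  refine (isZero_extSh_iff hPc G (i + 1)).2 fun x => subsingleton_of_forall_eq 0 fun z => ?_
  haveI := Groth.L18.LFP.free_stalk P hP x
  haveI : Projective (ModuleCat.of (X.presheaf.stalk x) (P.presheaf.stalk x)) :=
    IsProjective.iff_projective _ |>.1 Module.Projective.of_free
  exact Ext.eq_zero_of_projective z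

/-- On an affine scheme. -/
theorem isCoh_E_of_isAffine [IsLocallyNoetherian X] [IsAffine X] {G : X.Modules} (hG : Coh.IsCoh G) (i : ℕ) :
    ∀ {F : X.Modules}, Coh.IsCoh F → Coh.IsCoh (E F G i) := by
  induction i with
  | zero => exact fun hF => isCoh_E_zero hF hG
  | succ i ih =>
    intro F hF
    obtain ⟨r, p, hp⟩ := Groth.L22.Reg.exists_epi_free_fin hF
    have hPl : FlatMod.IsFinLocFree (∐ fun _ : Fin r => Coh.structureModule X) :=
      Groth.L29.DC.isFinLocFree_coprod_fin r _ fun _ =>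
        Groth.L20.ResDescent.isFinLocFree_of_isInvertible (Groth.L18.Ample.isInvertible_structureModule X)
    have hP : Coh.IsCoh (∐ fun _ : Fin r => Coh.structureModule X) := Groth.L16.NegPow.isCoh_of_isFinLocFree hPl
    have hK := (Groth.L16.CohKernel.isCoh_kernel_cokernel hP hF p).1
    have hS : (ShortComplex.mk (kernel.ι p) p (kernel.condition p)).ShortExact :=
      { exact := ShortComplex.exact_kernel p }
    obtain ⟨f, ⟨e⟩⟩ := exists_cokernel_iso hS hK hP hF G i (isZero_E_free hP hPl G i)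
    exact Groth.L16.CohSupport.isCoh_of_iso e
      (Groth.L16.CohKernel.isCoh_kernel_cokernel (ih hP) (ih hK) f).2

omit [HasInjectiveResolutions X.Modules] in
/-- Ext sheaves of coherent modules are coherent. -/
theorem isCoh_extSh [IsLocallyNoetherian X] {F G : X.Modules} (hF : Coh.IsCoh F) (hG : Coh.IsCoh G)
    [ModSite.HasSheafHom (O := X.sheaf) F] [HasInjectiveResolutions (ModSite.Mod X.sheaf)] (i : ℕ) :
    Coh.IsCoh ((ModSite.extSh (O := X.sheaf) F i).obj G) := by
  refine Groth.L29.DC.RHomC.isCoh_of_cover fun x => ?_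
  obtain ⟨_, ⟨V₀, hV, rfl⟩, hxV, -⟩ := X.isBasis_affineOpens.exists_subset_of_mem_open
    (Set.mem_univ x) isOpen_univ
  let V : X.Opens := V₀
  refine ⟨V, hxV, ?_⟩
  haveI : IsAffine V.toScheme := hV
  haveI := Groth.L17.Duality.hasSheafHom (F.restrict V.ι)
  haveI : HasInjectiveResolutions (ModSite.Mod V.toScheme.sheaf) :=
    Groth.L17.PushQCoh.hasInjectiveResolutions V.toScheme
  haveI : HasInjectiveResolutions V.toScheme.Modules := ‹HasInjectiveResolutions (ModSite.Mod V.toScheme.sheaf)›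
  obtain ⟨e⟩ := nonempty_extSh_restrict V.ι F i
  obtain ⟨e'⟩ := nonempty_extSh_iso (F.restrict V.ι) (G.restrict V.ι) i
  exact Groth.L16.CohSupport.isCoh_of_iso ((e.app G) ≪≫ e').symm
    (isCoh_E_of_isAffine (Groth.L29.DC.RHomC.isCoh_restrict V.ι hG) i
      (Groth.L29.DC.RHomC.isCoh_restrict V.ι hF))

end Groth.L22.ExtSh
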