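import Groth.Agent.L03.RefRegSch

/-!
Frames near a point where a coherent module is free of rank one.
-/

set_option autoImplicit false
set_option linter.style.haveILetI false
universe u

open CategoryTheory CategoryTheory.Limits AlgebraicGeometry TopologicalSpace Opposite

noncomputable section

namespace Groth.L22.FrameNear

open Groth.L18.Frame (rs ro IsFrame)

variable {X : Scheme.{u}} [IsLocallyNoetherian X]

/-- A coherent module free of rank one at a point is framed near the point. -/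
theorem exists_frame {F : X.Modules} (hF : Coh.IsCoh F)
    {x : X} (u : F.presheaf.stalk x)
    (hub : Function.Bijective fun a : X.presheaf.stalk x => a • u) :
    ∃ (W : X.Opens) (e : Γ(F, W)), x ∈ W ∧ IsFrame F W e := by
  classical
  haveI : Coh.IsQCoh F := hF.1
  have hu : Submodule.span (X.presheaf.stalk x) {u} = ⊤ :=
    eq_top_iff.2 fun v _ => Submodule.mem_span_singleton.2 (hub.2 v)
  obtain ⟨W₀, hxW₀, e₀, rfl⟩ := TopCat.Presheaf.exists_germ_eq (F := F.presheaf) (x := x) u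
  obtain ⟨V, hV, hxV, hVW⟩ := exists_isAffineOpen_mem_and_subset (x := x) (U := W₀) hxW₀
  haveI := Groth.L20.ModStalk.finite_sections F hF hV
  obtain ⟨n, m, hm⟩ := Module.Finite.exists_fin (R := Γ(X, V)) (M := Γ(F, V))
  have hloc : ∀ i : Fin n, ∃ (W : X.Opens) (hW : W ≤ V) (a : Γ(X, W)), x ∈ W ∧
      rs F hW (m i) = a • rs F (hW.trans hVW) e₀ := by
    intro i
    obtain ⟨r, hr⟩ := Submodule.mem_span_singleton.1 (hu.ge (Submodule.mem_top (x := F.presheaf.germ V x hxV (m i))))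
    obtain ⟨A, hxA, a, rfl⟩ := TopCat.Presheaf.exists_germ_eq (F := X.presheaf) (x := x) r
    have hxW : x ∈ A ⊓ V := ⟨hxA, hxV⟩
    have h1 : F.presheaf.germ (A ⊓ V) x hxW (rs F inf_le_right (m i)) =
        F.presheaf.germ (A ⊓ V) x hxW (ro (inf_le_left : A ⊓ V ≤ A) a • rs F ((inf_le_right : A ⊓ V ≤ V).trans hVW) e₀) := by
      rw [Groth.L20.ModStalk.germ_smul, Groth.L20.ModStalk.germ_rs, Groth.L20.ModStalk.germ_rs, ← hr]
      exact congrArg (· • _) (TopCat.Presheaf.germ_res_apply X.presheaf (homOfLE inf_le_left) x hxW a).symm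
    obtain ⟨W, hxW', i₁, i₂, h2⟩ := TopCat.Presheaf.germ_eq F.presheaf x hxW hxW _ _ h1
    refine ⟨W, i₁.le.trans inf_le_right, ro i₁.le (ro inf_le_left a), hxW', ?_⟩
    have h3 : rs F i₁.le (rs F inf_le_right (m i)) =
        rs F i₁.le (ro inf_le_left a • rs F (inf_le_right.trans hVW) e₀) := h2
    rw [Groth.L18.Frame.rs_smul, Groth.L18.Frame.rs_rs, Groth.L18.Frame.rs_rs] at h3
    exact h3
  choose Wi hWi ai hxi hai using hloc
  haveI : IsNoetherianRing Γ(X, V) := IsLocallyNoetherian.component_noetherian ⟨V, hV⟩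
  let ann : Ideal Γ(X, V) := LinearMap.ker (LinearMap.toSpanSingleton Γ(X, V) Γ(F, V) (rs F hVW e₀))
  obtain ⟨S, hS⟩ := IsNoetherian.noetherian ann
  have hz : ∀ c : S, ∃ (Z : X.Opens) (hZ : Z ≤ V), x ∈ Z ∧ ro hZ (c.1 : Γ(X, V)) = 0 := by
    intro c
    have hcm : c.1 ∈ ann := hS ▸ Submodule.subset_span c.2
    have hc : (c.1 : Γ(X, V)) • rs F hVW e₀ = 0 := hcm
    have h1 : X.presheaf.germ V x hxV c.1 = 0 := by
      refine hub.1 ?_
      show X.presheaf.germ V x hxV c.1 • F.presheaf.germ W₀ x hxW₀ e₀ = (0 : X.presheaf.stalk x) • _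
      rw [zero_smul, ← Groth.L20.ModStalk.germ_rs F hVW hxV, ← Groth.L20.ModStalk.germ_smul, hc, map_zero]
    obtain ⟨Z, hxZ, i₁, i₂, h2⟩ := TopCat.Presheaf.germ_eq X.presheaf x hxV hxV c.1 0
      (h1.trans (map_zero _).symm)
    exact ⟨Z, i₁.le, hxZ, h2.trans (map_zero _)⟩
  choose Zc hZc hxZc hzc using hz
  let W : X.Opens := V ⊓ (Finset.univ.inf Wi ⊓ Finset.univ.inf Zc)
  have hxW : x ∈ W := ⟨hxV, by
    have key' : ∀ s : Finset S, x ∈ s.inf Zc := fun s => by
      induction s using Finset.induction_on with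
      | empty => rw [Finset.inf_empty]; trivial
      | insert i s _ ih => rw [Finset.inf_insert]; exact ⟨hxZc i, ih⟩
    refine ⟨?_, key' _⟩
    have key : ∀ s : Finset (Fin n), x ∈ s.inf Wi := fun s => by
      induction s using Finset.induction_on with
      | empty => rw [Finset.inf_empty]; trivial
      | insert i s _ ih => rw [Finset.inf_insert]; exact ⟨hxi i, ih⟩
    exact key _⟩
  obtain ⟨e, he_def⟩ : ∃ e : Γ(F, W), e = rs F (inf_le_left.trans hVW) e₀ := ⟨_, rfl⟩
  refine ⟨W, e, hxW, fun V' hV' => ?_⟩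
  have hgen : ∀ (y : X) (hy : y ∈ W) (v : F.presheaf.stalk y),
      ∃ r : X.presheaf.stalk y, r • F.presheaf.germ W y hy e = v := by
    intro y hy v
    have hyV : y ∈ V := hy.1
    have hspan : ∀ p : Γ(F, V),
        F.presheaf.germ V y hyV p ∈ Submodule.span (X.presheaf.stalk y) {F.presheaf.germ W y hy e} := by
      intro p
      have hp : p ∈ Submodule.span Γ(X, V) (Set.range m) := by rw [hm]; trivial
      induction hp using Submodule.span_induction with
      | mem q hq =>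
        obtain ⟨i, rfl⟩ := hq
        have hyi : y ∈ Wi i := (Finset.inf_le (Finset.mem_univ i) : Finset.univ.inf Wi ≤ Wi i) hy.2.1
        rw [← Groth.L20.ModStalk.germ_rs F (hWi i) hyi, hai, Groth.L20.ModStalk.germ_smul]
        simp only [he_def, Groth.L20.ModStalk.germ_rs]
        exact Submodule.smul_mem _ _ (Submodule.mem_span_singleton_self _)
      | zero => rw [map_zero]; exact Submodule.zero_mem _
      | add a b _ _ ha hb => rw [map_add]; exact Submodule.add_mem _ ha hb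
      | smul a b _ hb => rw [Groth.L20.ModStalk.germ_smul]; exact Submodule.smul_mem _ _ hb
    letI := Groth.L20.ModStalk.stalkModule F hyV
    haveI := Groth.L20.ModStalk.isLocalizedModule_germ F hV hyV
    obtain ⟨⟨p, s⟩, hps⟩ := IsLocalizedModule.surj (hV.primeIdealOf ⟨y, hyV⟩).asIdeal.primeCompl
      (Groth.L20.ModStalk.germₗ F hyV) v
    letI := X.presheaf.algebra_section_stalk (⟨y, hyV⟩ : V)
    haveI := hV.isLocalization_stalk ⟨y, hyV⟩
    have hsu : IsUnit (X.presheaf.germ V y hyV (s : Γ(X, V))) := IsLocalization.map_units (X.presheaf.stalk y) s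
    have hps' : X.presheaf.germ V y hyV (s : Γ(X, V)) • v = F.presheaf.germ V y hyV p := hps
    obtain ⟨r, hr⟩ := Submodule.mem_span_singleton.1 (hspan p)
    obtain ⟨si, hsi⟩ := hsu.exists_left_inv
    exact ⟨si * r, by rw [mul_smul, hr, ← hps', smul_smul, hsi, one_smul]⟩
  have hann : ∀ (y : X) (hy : y ∈ W) (c : Γ(X, V)), c ∈ ann → X.presheaf.germ V y hy.1 c = 0 := by
    intro y hy c hc
    rw [← hS] at hc
    induction hc using Submodule.span_induction with
    | mem q hq =>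
      have hyZ : y ∈ Zc ⟨q, hq⟩ :=
        (Finset.inf_le (Finset.mem_univ _) : Finset.univ.inf Zc ≤ Zc ⟨q, hq⟩) hy.2.2
      rw [← TopCat.Presheaf.germ_res_apply X.presheaf (homOfLE (hZc ⟨q, hq⟩)) y hyZ q]
      exact (congrArg (X.presheaf.germ _ y hyZ) (hzc ⟨q, hq⟩)).trans (map_zero _)
    | zero => rw [map_zero]
    | add a b _ _ ha hb => rw [map_add, ha, hb, add_zero]
    | smul a b _ hb => rw [smul_eq_mul, map_mul, hb, mul_zero]
  have hsmul : ∀ (y : X) (hy : y ∈ W) (r : X.presheaf.stalk y), r • F.presheaf.germ W y hy e = 0 → r = 0 := by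
    intro y hy r hr
    have hyV : y ∈ V := hy.1
    letI := X.presheaf.algebra_section_stalk (⟨y, hyV⟩ : V)
    haveI := hV.isLocalization_stalk ⟨y, hyV⟩
    obtain ⟨⟨a, s⟩, hs⟩ := IsLocalization.surj (hV.primeIdealOf ⟨y, hyV⟩).asIdeal.primeCompl r
    change r * X.presheaf.germ V y hyV (s : Γ(X, V)) = X.presheaf.germ V y hyV a at hs
    have hsu : IsUnit (X.presheaf.germ V y hyV (s : Γ(X, V))) := IsLocalization.map_units (X.presheaf.stalk y) s
    have ha0 : F.presheaf.germ V y hyV (a • rs F hVW e₀) = 0 := by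
      rw [Groth.L20.ModStalk.germ_smul, Groth.L20.ModStalk.germ_rs, ← hs, mul_comm, mul_smul]
      rw [he_def, Groth.L20.ModStalk.germ_rs] at hr
      rw [hr, smul_zero]
    letI := Groth.L20.ModStalk.stalkModule F hyV
    haveI := Groth.L20.ModStalk.isLocalizedModule_germ F hV hyV
    obtain ⟨t, ht⟩ := (IsLocalizedModule.eq_zero_iff (hV.primeIdealOf ⟨y, hyV⟩).asIdeal.primeCompl
      (Groth.L20.ModStalk.germₗ F hyV)).1 ha0
    have hta : (t : Γ(X, V)) * a ∈ ann := by
      show ((t : Γ(X, V)) * a) • rs F hVW e₀ = 0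
      rw [mul_smul]
      exact ht
    have h0 := hann y hy _ hta
    rw [map_mul] at h0
    have htu : IsUnit (X.presheaf.germ V y hyV (t : Γ(X, V))) := IsLocalization.map_units (X.presheaf.stalk y) t
    rw [htu.mul_right_eq_zero] at h0
    rw [h0, hsu.mul_left_eq_zero] at hs
    exact hs
  have hinj : ∀ (V'' : X.Opens) (h : V'' ≤ W) (a b : Γ(X, V'')), a • rs F h e = b • rs F h e → a = b := by
    intro V'' h a b hab
    refine TopCat.Presheaf.section_ext X.sheaf V'' a b fun y hy => ?_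
    have h1 := congrArg (F.presheaf.germ V'' y hy) hab
    rw [Groth.L20.ModStalk.germ_smul, Groth.L20.ModStalk.germ_smul, Groth.L20.ModStalk.germ_rs] at h1
    rw [← sub_eq_zero, ← sub_smul] at h1
    exact sub_eq_zero.1 (hsmul y (h hy) _ h1)
  refine ⟨fun a b h => hinj V' hV' a b h, fun t => ?_⟩
  have hcov : ∀ y : V', ∃ (O : X.Opens) (hO : O ≤ V') (a : Γ(X, O)), y.1 ∈ O ∧
      a • rs F (hO.trans hV') e = rs F hO t := by
    rintro ⟨y, hy⟩
    obtain ⟨r, hr⟩ := hgen y (hV' hy) (F.presheaf.germ V' y hy t)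
    obtain ⟨A, hyA, a, rfl⟩ := TopCat.Presheaf.exists_germ_eq (F := X.presheaf) (x := y) r
    have hyI : y ∈ A ⊓ V' := ⟨hyA, hy⟩
    have h1 : F.presheaf.germ (A ⊓ V') y hyI (ro (inf_le_left : A ⊓ V' ≤ A) a • rs F ((inf_le_right : A ⊓ V' ≤ V').trans hV') e) =
        F.presheaf.germ (A ⊓ V') y hyI (rs F inf_le_right t) := by
      rw [Groth.L20.ModStalk.germ_smul, Groth.L20.ModStalk.germ_rs, Groth.L20.ModStalk.germ_rs, ← hr]
      exact congrArg (· • _) (TopCat.Presheaf.germ_res_apply X.presheaf (homOfLE inf_le_left) y hyI a)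
    obtain ⟨O, hyO, i₁, i₂, h2⟩ := TopCat.Presheaf.germ_eq F.presheaf y hyI hyI _ _ h1
    refine ⟨O, i₁.le.trans inf_le_right, ro i₁.le (ro inf_le_left a), hyO, ?_⟩
    have h3 : rs F i₁.le (ro inf_le_left a • rs F (inf_le_right.trans hV') e) =
        rs F i₁.le (rs F inf_le_right t) := h2
    rw [Groth.L18.Frame.rs_smul, Groth.L18.Frame.rs_rs, Groth.L18.Frame.rs_rs] at h3
    exact h3
  choose O hO a hyO ha using hcov
  obtain ⟨A, hA, -⟩ := TopCat.Sheaf.existsUnique_gluing' X.sheaf O V' (fun y => homOfLE (hO y))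
    (fun y hy => Opens.mem_iSup.2 ⟨⟨y, hy⟩, hyO _⟩) a (fun p q => by
      show ro (inf_le_left : O p ⊓ O q ≤ O p) (a p) = ro inf_le_right (a q)
      refine hinj (O p ⊓ O q) ((inf_le_left.trans (hO p)).trans hV') _ _ ?_
      have h1 := congrArg (rs F (inf_le_left : O p ⊓ O q ≤ O p)) (ha p)
      have h2 := congrArg (rs F (inf_le_right : O p ⊓ O q ≤ O q)) (ha q)
      simp only [Groth.L18.Frame.rs_smul, Groth.L18.Frame.rs_rs] at h1 h2
      exact h1.trans h2.symm)
  refine ⟨(A : Γ(X, V')), Groth.L15.Ref.sec_ext fun y hy => ?_⟩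
  have h1 := congrArg (F.presheaf.germ (O ⟨y, hy⟩) y (hyO ⟨y, hy⟩)) (ha ⟨y, hy⟩)
  rw [Groth.L20.ModStalk.germ_smul, Groth.L20.ModStalk.germ_rs, Groth.L20.ModStalk.germ_rs] at h1
  show F.presheaf.germ V' y hy ((show Γ(X, V') from A) • rs F hV' e) = _
  rw [Groth.L20.ModStalk.germ_smul, Groth.L20.ModStalk.germ_rs, ← h1]
  refine congrArg (· • _) ?_
  rw [← hA ⟨y, hy⟩]
  exact (TopCat.Presheaf.germ_res_apply X.presheaf (homOfLE (hO _)) y (hyO _) A).symm

end Groth.L22.FrameNear
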