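import Groth.Agent.L22.ExtSh.Coherence
import Groth.Agent.L22.PDual.LocFreeLow
import Groth.Agent.L22.PDual.CMVanish
import Groth.Agent.L29.DCoh.PullTensor
import Groth.Agent.L29.DCoh.ClosedPC
import Groth.Agent.L16.AffineBC.Pullback

/-!
Ext of twists into a coherent module on a projective scheme.
-/

set_option autoImplicit false
set_option backward.isDefEq.respectTransparency false
set_option linter.style.haveILetI false
universe u

open CategoryTheory CategoryTheory.Limits CategoryTheory.Abelian AlgebraicGeometry TopologicalSpace Opposite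

noncomputable section

namespace Groth.L22.ExtSh

open Groth.L22.Reg (O' tw')

variable {k : Type u} [Field k] {n : ℕ} {X : Scheme.{u}}

theorem isCoh_of_push {P : Scheme.{u}} (i : X ⟶ P) [IsClosedImmersion i] [IsLocallyNoetherian P] [IsLocallyNoetherian X] {M : X.Modules}
    (h : Coh.IsCoh ((Coh.push i).obj M)) : Coh.IsCoh M := by
  haveI := Groth.L17.ClosedPush.isIso_counit i
  exact Groth.L16.CohSupport.isCoh_of_iso (asIso ((Scheme.Modules.pullbackPushforwardAdjunction i).counit.app M))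
    (Groth.L16.AffineBC.isCoh_pullback i h)

theorem exists_ext_twist_vanish_all (ι : X ⟶ CohB1.ProjSpace n k) [IsClosedImmersion ι] [HasExt.{u} X.Modules]
    {ω : X.Modules} (hω : Coh.IsCoh ω) :
    ∃ m₀ : ℤ, ∀ m : ℤ, m₀ ≤ m → ∀ i : ℕ, 0 < i → Subsingleton (Ext ((Scheme.Modules.pullback ι).obj (O' n k (-m))) ω i) := by
  haveI := Groth.L22.PDual.proper n k
  haveI := Groth.L21.RR.isNoetherian_of_proper (X := CohB1.ProjSpace n k) k
  haveI : IsLocallyNoetherian X := LocallyOfFiniteType.isLocallyNoetherian ι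
  obtain ⟨d, hd⟩ := Groth.L22.Reg.exists_regular (Groth.L16.CohClosedPush.isCoh_push ι hω)
  refine ⟨d, fun m hm i hi => ?_⟩
  let L := (Scheme.Modules.pullback ι).obj (O' n k (-m))
  let L' := (Scheme.Modules.pullback ι).obj (O' n k m)
  obtain ⟨a⟩ := Groth.L22.Reg.nonempty_O_add (n := n) (R := k) (show -m + m = 0 by omega)
  obtain ⟨b⟩ := Groth.L22.Reg.nonempty_O_zero n k
  let e : CohB1.tensorMod L L' ≅ Coh.structureModule X :=
    Groth.L29.DC.PullTensor.pullTensor ι _ _ ≪≫ (Scheme.Modules.pullback ι).mapIso (a ≪≫ b) ≪≫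
      Groth.L29.LocFree.pullbackUnitIso ι
  haveI := Groth.L17.Duality.hasSheafHom L
  obtain ⟨c⟩ := Groth.L22.PDual.nonempty_homMod_invertible e
  have hL : FlatMod.IsFinLocFree L := Groth.L29.LocFree.pullback ι
    (Groth.L20.ResDescent.isFinLocFree_of_isInvertible (Groth.L16.ProjTwist.isInvertible_twistProjSpace n k _))
  obtain ⟨f⟩ := Groth.L17.Duality.nonempty_ext_iso_cohomology L hL ω i
  refine @Equiv.subsingleton _ _ f.toEquiv ?_
  exact Groth.L16.ProjSpace.subsingleton_of_iso (c.app ω) i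
    ((Groth.L22.PDual.subsingleton_push_twist_iff ι ω m i).1 (hd.subsingleton hi (by omega)))

theorem exists_ext_twist_vanish (ι : X ⟶ CohB1.ProjSpace n k) [IsClosedImmersion ι] [HasExt.{u} X.Modules]
    {ω : X.Modules} (hω : Coh.IsCoh ω) {i : ℕ} (hi : 0 < i) :
    ∃ m₀ : ℤ, ∀ m : ℤ, m₀ ≤ m → Subsingleton (Ext ((Scheme.Modules.pullback ι).obj (O' n k (-m))) ω i) :=
  (exists_ext_twist_vanish_all ι hω).imp fun _ h m hm => h m hm i hi

end Groth.L22.ExtSh

namespace Groth.L22.ExtSh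

open Groth.L22.Reg (O' tw')

theorem exists_ext_bundle_twist_vanish {k : Type u} [Field k] {n : ℕ} {X : Scheme.{u}}
    (ι : X ⟶ CohB1.ProjSpace n k) [IsClosedImmersion ι] [HasExt.{u} X.Modules]
    {F : X.Modules} (hF : FlatMod.IsFinLocFree F) {ω : X.Modules} (hω : Coh.IsCoh ω) {i : ℕ} (hi : 0 < i) :
    ∃ m₀ : ℤ, ∀ m : ℤ, m₀ ≤ m →
      Subsingleton (Ext (CohB1.tensorMod F ((Scheme.Modules.pullback ι).obj (O' n k (-m)))) ω i) := by
  haveI := Groth.L22.PDual.proper n k
  haveI := Groth.L21.RR.isNoetherian_of_proper (X := CohB1.ProjSpace n k) k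
  haveI : IsLocallyNoetherian X := LocallyOfFiniteType.isLocallyNoetherian ι
  haveI := Groth.L17.Duality.hasSheafHom F
  let H := (Groth.L17.ChangeRings.homMod F).obj ω
  have hH : Coh.IsCoh H := Groth.L16.CohSupport.isCoh_of_iso ((homModSiteIso F).app ω).symm
    (Groth.L16.HomSh.isCoh_homMod (Groth.L16.NegPow.isCoh_of_isFinLocFree hF) hω)
  obtain ⟨d, hd⟩ := Groth.L22.Reg.exists_regular (Groth.L16.CohClosedPush.isCoh_push ι hH)
  refine ⟨d, fun m hm => ?_⟩
  let L := (Scheme.Modules.pullback ι).obj (O' n k (-m))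
  let L' := (Scheme.Modules.pullback ι).obj (O' n k m)
  obtain ⟨a⟩ := Groth.L22.Reg.nonempty_O_add (n := n) (R := k) (show -m + m = 0 by omega)
  obtain ⟨b⟩ := Groth.L22.Reg.nonempty_O_zero n k
  let e : CohB1.tensorMod L L' ≅ Coh.structureModule X :=
    Groth.L29.DC.PullTensor.pullTensor ι _ _ ≪≫ (Scheme.Modules.pullback ι).mapIso (a ≪≫ b) ≪≫
      Groth.L29.LocFree.pullbackUnitIso ι
  haveI := Groth.L17.Duality.hasSheafHom L
  haveI := Groth.L17.Duality.hasSheafHom (CohB1.tensorMod F L)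
  obtain ⟨c⟩ := Groth.L22.PDual.nonempty_homMod_invertible e
  have hL : FlatMod.IsFinLocFree L := Groth.L29.LocFree.pullback ι
    (Groth.L20.ResDescent.isFinLocFree_of_isInvertible (Groth.L16.ProjTwist.isInvertible_twistProjSpace n k _))
  obtain ⟨f⟩ := Groth.L17.Duality.nonempty_ext_iso_cohomology (CohB1.tensorMod F L)
    (Groth.L29.DC.isFinLocFree_tensor hF hL) ω i
  refine @Equiv.subsingleton _ _ f.toEquiv ?_
  exact Groth.L16.ProjSpace.subsingleton_of_iso
    ((Groth.L17.Duality.homTensorIso L F).symm.app ω ≪≫ c.app H) i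
    ((Groth.L22.PDual.subsingleton_push_twist_iff ι H m i).1 (hd.subsingleton hi (by omega)))

end Groth.L22.ExtSh
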