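import Groth.Agent.L22.ExtSh.TorsionFree
import Groth.Agent.L22.ExtSh.FrameNear
import Groth.Agent.L22.ExtSh.Coherence
import Groth.Agent.L22.ExtSh.TwistDual
import Groth.Agent.L18.RelTilde.Frames

/-!
The Ext sheaf in codimension is invertible near the reduced generic points.
-/

set_option autoImplicit false
set_option backward.isDefEq.respectTransparency false
set_option linter.style.haveILetI false
universe u

open CategoryTheory CategoryTheory.Limits CategoryTheory.Abelian AlgebraicGeometry TopologicalSpace Opposite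
open IsLocalRing

noncomputable section

namespace Groth.L22.GenRank

open Groth.L22.ExtSh

variable {X P : Scheme.{u}}

theorem isInvertible_of_rank_one {L : P.Modules} (hL : FlatMod.IsFinLocFreeOfRank 1 L) : PicF.IsInvertible L :=
  fun x => by
    obtain ⟨U, hx, ⟨e⟩⟩ := hL x
    exact ⟨U, hx, ⟨e ≪≫ coproductUniqueIso (fun _ : Fin 1 => Coh.structureModule (↑U : Scheme.{u}))⟩⟩

theorem isField_stalk {x : X} [_root_.IsReduced (X.presheaf.stalk x)]
    (hx : closure ({x} : Set ↥X) ∈ irreducibleComponents ↥X) : IsField (X.presheaf.stalk x) := by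
  have huniq : ∀ z : X, z ⤳ x → z = x := fun z hz => by
    refine (hz.antisymm ?_).eq
    refine specializes_iff_mem_closure.2 (hx.2 isIrreducible_singleton.closure ?_ (subset_closure rfl))
    exact closure_minimal (Set.singleton_subset_iff.2 hz.mem_closure) isClosed_closure
  haveI : Subsingleton (PrimeSpectrum (X.presheaf.stalk x)) := ⟨fun p q => by
    refine (X.fromSpecStalk x).isEmbedding.injective ?_
    have h : ∀ p, X.fromSpecStalk x p = x := fun p => huniq _
      (Set.ext_iff.1 (X.range_fromSpecStalk (x := x)) _ |>.1 ⟨p, rfl⟩)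
    rw [h p, h q]⟩
  refine IsLocalRing.isField_iff_maximalIdeal_eq.2 (eq_bot_iff.2 fun a ha => ?_)
  have hnil : IsNilpotent a := by
    rw [nilpotent_iff_mem_prime]
    intro J hJ
    rw [show J = maximalIdeal _ from congrArg PrimeSpectrum.asIdeal
      (Subsingleton.elim (⟨J, hJ⟩ : PrimeSpectrum _) (IsLocalRing.closedPoint _))]
    exact ha
  exact hnil.eq_zero

variable [IsLocallyNoetherian P] (ι : X ⟶ P) [IsClosedImmersion ι] {c : ℕ}
  [ModSite.HasSheafHom (O := P.sheaf) ((Scheme.Modules.pushforward ι).obj (Coh.structureModule X))]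
  [HasInjectiveResolutions (ModSite.Mod P.sheaf)] {ωP : P.Modules} (hωP : PicF.IsInvertible ωP) {ω : X.Modules}
  (eω : (Scheme.Modules.pushforward ι).obj ω ≅ (ModSite.extSh (O := P.sheaf)
      ((Scheme.Modules.pushforward ι).obj (Coh.structureModule X)) c).obj ωP)

include hωP eω in
theorem exists_stalk_generator (x : X) [IsRegularLocalRing (P.presheaf.stalk (ι x))]
    (hc : ringKrullDim (P.presheaf.stalk (ι x)) = (c : WithBot ℕ∞)) (hA : IsField (X.presheaf.stalk x)) :
    ∃ v : ω.presheaf.stalk x, Function.Bijective fun a : X.presheaf.stalk x => a • v := by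
  haveI : IsLocallyNoetherian X := LocallyOfFiniteType.isLocallyNoetherian ι
  let F := (Coh.push ι).obj (Coh.structureModule X)
  have hF : Coh.IsCoh F := Groth.L16.CohClosedPush.isCoh_push ι Groth.L16.CohClosedPush.isCoh_structure
  let R := P.presheaf.stalk (ι x)
  -- the stalk of `ω` as an Ext module
  obtain ⟨e1⟩ := nonempty_ext_stalk_equiv hF ωP (ι x) c
  obtain ⟨e, he⟩ := Groth.L21.RR.exists_frame_stalk hωP (ι x)
  let eR : ωP.presheaf.stalk (ι x) ≃ₗ[R] R :=
    (LinearEquiv.ofBijective (LinearMap.toSpanSingleton R (ωP.presheaf.stalk (ι x)) e) he).symm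
  obtain ⟨e2⟩ := nonempty_ext_congr_right (N := ModuleCat.of R (F.presheaf.stalk (ι x))) eR.toModuleIso c
  let e3 := ((Groth.L00.Stk.F P (ι x)).mapIso eω.symm).toLinearEquiv
  let L0 := e2.symm ≪≫ₗ e1 ≪≫ₗ e3
  let cω := Groth.L17.ClosedPush.c₀ ι ω x
  -- the stalk of `ι_* O` is the residue field
  obtain ⟨o, ho⟩ : ∃ o : (Coh.structureModule X).presheaf.stalk x,
      Function.Bijective fun a : X.presheaf.stalk x => a • o := ⟨_, Groth.L21.RR.bijective_smul_one x⟩
  obtain ⟨m₀, hm₀⟩ := (Groth.L17.ClosedPush.c₀_bijective ι (Coh.structureModule X) x).2 o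
  let φ : R →+* X.presheaf.stalk x := (ι.stalkMap x).hom
  have hker : RingHom.ker φ = maximalIdeal R := by
    refine IsLocalRing.eq_maximalIdeal ?_
    letI := hA.toField
    exact RingHom.ker_isMaximal_of_surjective φ (ι.stalkMap_surjective x)
  let T : R →ₗ[R] F.presheaf.stalk (ι x) := LinearMap.toSpanSingleton R _ m₀
  have hcT : ∀ r, Groth.L17.ClosedPush.c₀ ι (Coh.structureModule X) x (T r) = φ r • o := fun r =>
    (Groth.L17.ClosedPush.c₀_smul ι (Coh.structureModule X) x r m₀).trans (congrArg (φ r • ·) hm₀)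
  have hTs : Function.Surjective T := fun m => by
    obtain ⟨a, ha⟩ := ho.2 (Groth.L17.ClosedPush.c₀ ι (Coh.structureModule X) x m)
    obtain ⟨r, rfl⟩ := ι.stalkMap_surjective x a
    exact ⟨r, (Groth.L17.ClosedPush.c₀_bijective ι _ x).1 ((hcT r).trans ha)⟩
  have hTk : LinearMap.ker T = maximalIdeal R := by
    rw [← hker]
    ext r
    rw [LinearMap.mem_ker, RingHom.mem_ker]
    refine ⟨fun h => ho.1 (((hcT r).symm.trans (by rw [h, map_zero])).trans (zero_smul _ _).symm), fun h => ?_⟩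
    refine (Groth.L17.ClosedPush.c₀_bijective ι _ x).1 ((hcT r).trans ?_)
    rw [h, zero_smul, map_zero]
  let eM : ResidueField R ≃ₗ[R] F.presheaf.stalk (ι x) :=
    (Submodule.quotEquivOfEq _ _ hTk.symm) ≪≫ₗ T.quotKerEquivOfSurjective hTs
  obtain ⟨eE⟩ := nonempty_ext_congr_left (M := ModuleCat.of R R) eM.toModuleIso c
  obtain ⟨g, hg0, hg⟩ := exists_generator_ext_residueField (R := R) hc
  have hv0 : cω (L0 (eE g)) ≠ 0 := fun h => hg0 (eE.map_eq_zero_iff.1 (L0.map_eq_zero_iff.1
    ((map_eq_zero_iff _ (Groth.L17.ClosedPush.c₀_bijective ι ω x).1).1 h)))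
  refine ⟨cω (L0 (eE g)), fun a b hab => ?_, fun v => ?_⟩
  · by_contra hne
    obtain ⟨t, ht⟩ := hA.mul_inv_cancel (sub_ne_zero.2 hne)
    refine hv0 ?_
    rw [← one_smul (X.presheaf.stalk x) (cω (L0 (eE g))), ← ht, mul_comm, mul_smul, sub_smul,
      sub_eq_zero.2 hab, smul_zero]
  · obtain ⟨z, rfl⟩ := (Groth.L17.ClosedPush.c₀_bijective ι ω x).2 v
    obtain ⟨r, hr⟩ := hg (eE.symm (L0.symm z))
    refine ⟨φ r, ?_⟩
    show φ r • cω (L0 (eE g)) = _
    refine (Groth.L17.ClosedPush.c₀_smul ι ω x r (L0 (eE g))).symm.trans (congrArg cω ?_)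
    refine (L0.map_smul r (eE g)).symm.trans ((congrArg L0 (eE.map_smul r g).symm).trans ?_)
    rw [hr, eE.apply_symm_apply, L0.apply_symm_apply]

include hωP eω in
theorem exists_dense_invertible (hreg : ∀ p : P, IsRegularLocalRing (P.presheaf.stalk p))
    (hcodim : ∀ x : X, closure ({x} : Set ↥X) ∈ irreducibleComponents ↥X →
      ringKrullDim (P.presheaf.stalk (ι x)) = (c : WithBot ℕ∞))
    (hred : ∀ x : X, closure ({x} : Set ↥X) ∈ irreducibleComponents ↥X → _root_.IsReduced (X.presheaf.stalk x)) :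
    ∃ U : X.Opens, Dense (U : Set ↥X) ∧ PicF.IsInvertible (ω.restrict U.ι) := by
  haveI : IsLocallyNoetherian X := LocallyOfFiniteType.isLocallyNoetherian ι
  have hωc : Coh.IsCoh ω := isCoh_of_push ι (Groth.L16.CohSupport.isCoh_of_iso eω.symm
    (isCoh_extSh (Groth.L16.CohClosedPush.isCoh_push ι Groth.L16.CohClosedPush.isCoh_structure)
      (Groth.L16.ProperFinite.isCoh_of_isInvertible hωP) c))
  let U : X.Opens := ⨆ (W : X.Opens) (_ : ∃ e : Γ(ω, W), Groth.L18.Frame.IsFrame ω W e), W
  refine ⟨U, ?_, Groth.L18.RelTilde.isInvertible_restrict_of_frames fun x hx => ?_⟩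
  · intro y
    have hC := irreducibleComponent_mem_irreducibleComponents y
    obtain ⟨η, hη⟩ := QuasiSober.sober hC.1 (isClosed_of_mem_irreducibleComponents _ hC)
    have hηc : closure ({η} : Set ↥X) ∈ irreducibleComponents ↥X := hη.def.symm ▸ hC
    haveI := hred η hηc
    haveI := hreg (ι η)
    obtain ⟨v, hv⟩ := exists_stalk_generator ι hωP eω η (hcodim η hηc) (isField_stalk hηc)
    obtain ⟨W, e, hηW, he⟩ := Groth.L22.FrameNear.exists_frame hωc v hv
    refine closure_mono (Set.singleton_subset_iff.2 ?_) (hη.def.symm ▸ mem_irreducibleComponent)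
    exact (le_iSup₂_of_le W ⟨e, he⟩ le_rfl : W ≤ U) hηW
  · simp only [U, Opens.mem_iSup] at hx
    obtain ⟨W, ⟨e, he⟩, hxW⟩ := hx
    exact ⟨W, e, hxW, he⟩

end Groth.L22.GenRank
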