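import Groth.Agent.L22.ExtSh.SplitComplex
import Groth.Agent.L22.ExtSh.Coherence
import Groth.Agent.L22.ExtSh.PushCodim
import Groth.Agent.L17.ClosedPush
import Groth.Agent.L00.TensorColim
import Groth.Prelude.Def_Dual3
import Mathlib.CategoryTheory.Abelian.Injective.Ext

/-!
Duality for a closed immersion in the lowest degree: `Ext^c(ι_* F, G) = Hom(F, ω)` when the Ext sheaves of
`ι_* O` vanish below `c` and `ι_* ω` is the one in degree `c`.
-/

set_option autoImplicit false
set_option backward.isDefEq.respectTransparency false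
set_option linter.style.haveILetI false
universe u

open CategoryTheory CategoryTheory.Limits CategoryTheory.Abelian AlgebraicGeometry TopologicalSpace Opposite

noncomputable section

namespace Groth.L22.DualSheaf

open Groth.L16.HomSh (homMod homModF tensorHomAdj)

variable {X P : Scheme.{u}} (ι : X ⟶ P)

/-- A coboundary criterion in every degree. -/
theorem extMk_eq_zero_iff' {C : Type (u + 1)} [Category.{u} C] [Abelian C] [HasExt.{u} C] {Y Z : C}
    (R : InjectiveResolution Y) {c : ℕ} (f : Z ⟶ R.cocomplex.X c) (hf : f ≫ R.cocomplex.d c (c + 1) = 0) :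
    R.extMk f (c + 1) rfl hf = 0 ↔ ∃ (i : ℕ) (g : Z ⟶ R.cocomplex.X i), g ≫ R.cocomplex.d i c = f := by
  cases c with
  | zero =>
    constructor
    · intro h
      refine ⟨0, 0, ?_⟩
      rw [zero_comp]
      simp only [← R.extEquivCohomologyClass.apply_eq_iff_eq, InjectiveResolution.extEquivCohomologyClass_extMk,
        InjectiveResolution.extEquivCohomologyClass_zero, CochainComplex.HomComplex.CohomologyClass.mk_eq_zero_iff] at h
      rw [CochainComplex.HomComplex.Cocycle.fromSingleMk_mem_coboundaries_iff _ _ _ _ _ (-1) (by lia)] at h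
      obtain ⟨g, hg⟩ := h
      have h0 : g = 0 := (CochainComplex.isZero_of_isStrictlyGE R.cochainComplex 0 (-1) (by lia)).eq_of_tgt _ _
      rw [h0, zero_comp] at hg
      exact ((cancel_mono (R.cochainComplexXIso 0 0 rfl).inv).1 (by rw [zero_comp]; exact hg))
    · rintro ⟨i, g, rfl⟩
      simp [R.cocomplex.shape i 0 (by simp)]
  | succ p =>
    rw [R.extMk_eq_zero_iff f (p + 1 + 1) rfl hf p rfl]
    refine ⟨fun ⟨g, hg⟩ => ⟨p, g, hg⟩, fun ⟨i, g, hg⟩ => ?_⟩
    by_cases hi : i = p
    · subst hi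
      exact ⟨g, hg⟩
    · exact ⟨0, by rw [← hg, zero_comp, R.cocomplex.shape i (p + 1) (by simp; omega), comp_zero]⟩

variable [IsClosedImmersion ι]

/-- Hom out of `ι_* O` is `ι_* ι^!`. -/
theorem nonempty_homO_push [Dual3.HasHomO ι] :
    Nonempty (Dual3.homO ι ⋙ Scheme.Modules.pushforward ι ≅
      homModF ((Scheme.Modules.pushforward ι).obj (Coh.structureModule X))) := by
  let A := (Scheme.Modules.pushforward ι).obj (Coh.structureModule X)
  let e1 : Groth.L00.Tensor.tensorRightF (Coh.structureModule X) ≅ 𝟭 X.Modules :=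
    NatIso.ofComponents (fun N => Groth.L00.Tensor.tensorUnitRight N) fun {N N'} g => by
      open Groth.L00.Tensor MonoidalCategory in
      refine ((Category.assoc _ _ _).symm.trans ?_).trans (Category.assoc _ _ _).symm
      have h1 : tensorMap g (𝟙 (Coh.structureModule X)) ≫ (shf X).map (ρ_ (pre N')).hom =
          (shf X).map (ρ_ (pre N)).hom ≫ (shf X).map ((preF X).map g) := by
        rw [tensorMap, ← Functor.map_comp, ← Functor.map_comp]
        refine congrArg (shf X).map ?_
        refine ((congrArg (fun k => ((preF X).map g ⊗ₘ k) ≫ (ρ_ (pre N')).hom) ((preF X).map_id _)).trans ?_)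
        exact (congrArg (· ≫ (ρ_ (pre N')).hom) (MonoidalCategory.tensorHom_id _ _)).trans
          (MonoidalCategory.rightUnitor_naturality ((preF X).map g))
      refine ((congrArg (· ≫ (counitIso N').hom) h1).trans ?_)
      refine (Category.assoc _ _ _).trans ?_
      exact congrArg ((shf X).map (ρ_ (pre N)).hom ≫ ·) ((Groth.L17.ClosedPush.shAdj X).counit.naturality g)
  let e : Groth.L00.Tensor.tensorLeftF A ≅ Scheme.Modules.pullback ι ⋙ Scheme.Modules.pushforward ι :=
    (Groth.L00.Tensor.tensorFlipIso A).symm ≪≫ Groth.L17.ClosedPush.thetaIso ι (Coh.structureModule X) ≪≫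
      Functor.isoWhiskerLeft _ (Functor.isoWhiskerRight e1 _) ≪≫ Functor.isoWhiskerLeft _ (Functor.leftUnitor _)
  exact ⟨((Scheme.Modules.pullbackPushforwardAdjunction ι).comp (Dual3.homOAdj ι)).rightAdjointUniq
    ((tensorHomAdj A).ofNatIsoLeft e)⟩

/-- The fundamental local isomorphism in the lowest degree, globally. -/
theorem exists_class [HasExt.{u} P.Modules]
    [ModSite.HasSheafHom (O := P.sheaf) ((Scheme.Modules.pushforward ι).obj (Coh.structureModule X))]
    [HasInjectiveResolutions (ModSite.Mod P.sheaf)] (G : P.Modules) (c : ℕ)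
    (hz : ∀ q, q < c → IsZero ((ModSite.extSh (O := P.sheaf)
      ((Scheme.Modules.pushforward ι).obj (Coh.structureModule X)) q).obj G))
    (ω : X.Modules)
    (hω : Nonempty ((Scheme.Modules.pushforward ι).obj ω ≅ (ModSite.extSh (O := P.sheaf)
      ((Scheme.Modules.pushforward ι).obj (Coh.structureModule X)) c).obj G)) :
    ∃ ε : Ext ((Scheme.Modules.pushforward ι).obj ω) G c, ∀ F : X.Modules,
      Function.Bijective fun φ : F ⟶ ω =>
        (Ext.mk₀ ((Scheme.Modules.pushforward ι).map φ)).comp ε (zero_add c) := by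
  haveI : HasInjectiveResolutions P.Modules := ‹HasInjectiveResolutions (ModSite.Mod P.sheaf)›
  haveI : Dual3.HasHomO ι := Groth.L17.ClosedPush.isLeftAdjoint_push ι
  let push := Scheme.Modules.pushforward ι
  let adj := Dual3.homOAdj ι
  let A := push.obj (Coh.structureModule X)
  haveI := (Scheme.Modules.pullbackPushforwardAdjunction ι).isRightAdjoint
  haveI : PreservesFiniteLimits push := inferInstance
  haveI : PreservesFiniteColimits push := inferInstance
  haveI : push.Additive := adj.left_adjoint_additive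
  haveI := Groth.L22.ExtSh.additive_homModF A
  let I := injectiveResolution G
  let J := ((Dual3.homO ι).mapHomologicalComplex _).obj I.cocomplex
  obtain ⟨κ⟩ := nonempty_homO_push ι
  have key : ∀ q, Nonempty ((ModSite.extSh (O := P.sheaf) A q).obj G ≅ push.obj (J.homology q)) := fun q => by
    obtain ⟨e⟩ := Groth.L22.ExtSh.nonempty_extSh_iso A G q
    exact ⟨e ≪≫ I.isoRightDerivedObj (homModF A) q ≪≫
      (HomologicalComplex.homologyFunctor P.Modules (ComplexShape.up ℕ) q).mapIso
        ((NatIso.mapHomologicalComplex κ.symm (ComplexShape.up ℕ)).app I.cocomplex) ≪≫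
      (J.sc q).mapHomologyIso push⟩
  haveI := Groth.L17.ClosedPush.isIso_counit ι
  let cu : Scheme.Modules.pushforward ι ⋙ Scheme.Modules.pullback ι ≅ 𝟭 X.Modules :=
    asIso (Scheme.Modules.pullbackPushforwardAdjunction ι).counit
  haveI : (Scheme.Modules.pullback ι).Additive :=
    (Scheme.Modules.pullbackPushforwardAdjunction ι).left_adjoint_additive
  have hJ : ∀ q, Injective (J.X q) := fun q => by
    haveI := I.injective q
    exact Injective.injective_of_adjoint adj (I.cocomplex.X q)
  have hex : ∀ q, q < c → J.ExactAt q := fun q hq => by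
    rw [J.exactAt_iff_isZero_homology]
    obtain ⟨e⟩ := key q
    exact ((Scheme.Modules.pullback ι).map_isZero ((hz q hq).of_iso e.symm)).of_iso (cu.app _).symm
  obtain ⟨s, hsd, hex', huniq⟩ := Groth.L22.ExtSh.exists_section J hJ c hex
  obtain ⟨e⟩ := key c
  obtain ⟨eω⟩ := hω
  let θ : ω ≅ J.homology c := (cu.app ω).symm ≪≫ (Scheme.Modules.pullback ι).mapIso (eω ≪≫ e) ≪≫ cu.app _
  let tp : ∀ {F : X.Modules} {q : ℕ}, (F ⟶ J.X q) → (push.obj F ⟶ I.cocomplex.X q) := fun g =>
    (adj.homEquiv _ _).symm g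
  have htd : ∀ {F : X.Modules} {q q' : ℕ} (g : F ⟶ J.X q), tp g ≫ I.cocomplex.d q q' = tp (g ≫ J.d q q') :=
    fun g => (adj.homEquiv_naturality_right_symm g _).symm
  have htp0 : ∀ {F : X.Modules} {q : ℕ}, tp (0 : F ⟶ J.X q) = 0 := fun {F q} => by
    show (adj.homEquiv _ _).symm 0 = 0
    rw [Adjunction.homEquiv_counit, Functor.map_zero, zero_comp]
  have hcoc : tp (θ.hom ≫ s) ≫ I.cocomplex.d c (c + 1) = 0 := by
    rw [htd, Category.assoc, hsd, comp_zero, htp0]
  let ε := I.extMk (tp (θ.hom ≫ s)) (c + 1) rfl hcoc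
  have hcomp : ∀ {F : X.Modules} (φ : F ⟶ ω), (Scheme.Modules.pushforward ι).map φ ≫ tp (θ.hom ≫ s) = tp (φ ≫ θ.hom ≫ s) :=
    fun φ => (adj.homEquiv_naturality_left_symm φ _).symm
  refine ⟨ε, fun F => ⟨fun φ ψ h => ?_, fun a => ?_⟩⟩
  · simp only [ε, InjectiveResolution.mk₀_comp_extMk, hcomp] at h
    rw [← sub_eq_zero, I.sub_extMk, extMk_eq_zero_iff'] at h
    obtain ⟨i, g, hg⟩ := h
    obtain ⟨g', rfl⟩ := (adj.homEquiv _ _).symm.surjective g
    change tp g' ≫ I.cocomplex.d i c = _ at hg
    rw [htd] at hg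
    have h1 : tp (φ ≫ θ.hom ≫ s) - tp (ψ ≫ θ.hom ≫ s) = tp (((φ - ψ) ≫ θ.hom) ≫ s) := by
      simp only [tp, Adjunction.homEquiv_counit, Functor.map_comp, Functor.map_sub, Preadditive.sub_comp,
        Category.assoc]
    rw [h1] at hg
    have h2 := huniq ((φ - ψ) ≫ θ.hom) i g' ((adj.homEquiv _ _).symm.injective hg).symm
    rw [← sub_eq_zero]
    exact (cancel_mono θ.hom).1 (h2.trans zero_comp.symm)
  · obtain ⟨f, hf, rfl⟩ := I.extMk_surjective a (c + 1) rfl
    obtain ⟨g, rfl⟩ := (adj.homEquiv _ _).symm.surjective f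
    have hg : g ≫ J.d c (c + 1) = 0 := by
      refine (adj.homEquiv _ _).symm.injective ?_
      exact (htd g).symm.trans (hf.trans htp0.symm)
    obtain ⟨φ, i, h, hφ⟩ := hex' g hg
    refine ⟨φ ≫ θ.inv, ?_⟩
    simp only [ε, InjectiveResolution.mk₀_comp_extMk, hcomp]
    rw [← sub_eq_zero, I.sub_extMk, extMk_eq_zero_iff']
    refine ⟨i, -tp h, ?_⟩
    rw [Preadditive.neg_comp, htd, ← hφ, Category.assoc, θ.inv_hom_id_assoc]
    simp only [tp, Adjunction.homEquiv_counit, Functor.map_sub, Preadditive.sub_comp, neg_sub]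

end Groth.L22.DualSheaf
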