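import Groth.Agent.L22.ExtSh.StalkExt
import Groth.Agent.L18.Frame
import Groth.Agent.L21.Mod.Locality
import Groth.Agent.L04.SupportSh.Restrict
import Groth.Agent.L29.DCoh.ExtZero
import Groth.Agent.S11327

/-!
The sheaf of homomorphisms and the Ext sheaves restrict to opens.
-/

set_option autoImplicit false
set_option backward.isDefEq.respectTransparency false
set_option linter.style.haveILetI false
universe u

open CategoryTheory CategoryTheory.Limits AlgebraicGeometry TopologicalSpace Opposite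

noncomputable section

namespace Groth.L22.ExtSh

open Groth.L16.HomSh
open Groth.L18.Frame (rs)

variable {X Y : Scheme.{u}} (j : Y ⟶ X) [IsOpenImmersion j] {M N : X.Modules}

local notation "R'" => Scheme.Modules.restrictFunctor j

/-- Scalars of a restricted module. -/
theorem restrict_smul_inv (M : X.Modules) (V : Y.Opens) (a : Γ(Y, V)) (t : Γ((R').obj M, V)) :
    (show Γ(M, j ''ᵁ V) from a • t) = (j.appIso V).inv a • (show Γ(M, j ''ᵁ V) from t) := rfl

/-- A family on the image of `V` gives a family on `V`. -/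
def resSecHom (V : Y.Opens) :
    Sec M N (j ''ᵁ V) →+ Sec ((R').obj M) ((R').obj N) V where
  toFun φ := ⟨fun W => ev φ (j.image_mono W.2),
    fun W W' h h' x => ev_rs φ (j.image_mono h) (j.image_mono h') x,
    fun W h a x => by
      show ev φ (j.image_mono h) (show Γ(M, j ''ᵁ W) from a • x) = _
      rw [restrict_smul_inv j M W a x, ev_smul]
      exact (restrict_smul_inv j N W a _).symm⟩
  map_zero' := rfl
  map_add' _ _ := rfl

theorem le_image_of_le {V : Y.Opens} {W : X.Opens} (h : W ≤ j ''ᵁ V) :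
    j ''ᵁ (j ⁻¹ᵁ W) = W :=
  (j.image_preimage_eq_opensRange_inf W).trans
    (inf_eq_right.2 (h.trans (j.image_le_opensRange V)))

/-- Evaluation of a family on `U`, read on `X`. -/
def evI {V : Y.Opens} (ψ : Sec ((R').obj M) ((R').obj N) V) {W : Y.Opens} (h : W ≤ V) :
    Γ(M, j ''ᵁ W) →+ Γ(N, j ''ᵁ W) := ev ψ h

theorem evI_rs {V : Y.Opens} (ψ : Sec ((R').obj M) ((R').obj N) V) {W W' : Y.Opens}
    (h : W ≤ V) (h' : W' ≤ W) (x : Γ(M, j ''ᵁ W)) :
    rs N (j.image_mono h') (evI j ψ h x) = evI j ψ (h'.trans h) (rs M (j.image_mono h') x) :=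
  ev_rs ψ h h' x

theorem evI_smul {V : Y.Opens} (ψ : Sec ((R').obj M) ((R').obj N) V) {W : Y.Opens}
    (h : W ≤ V) (a : Γ(X, j ''ᵁ W)) (x : Γ(M, j ''ᵁ W)) :
    evI j ψ h (a • x) = a • evI j ψ h x := by
  obtain ⟨b, rfl⟩ : ∃ b : Γ(Y, W), (j.appIso W).inv b = a :=
    ⟨(j.appIso W).hom a, congr($((j.appIso W).hom_inv_id) a)⟩
  have h1 := ev_smul ψ h b (show Γ((R').obj M, W) from x)
  exact ((congrArg (evI j ψ h) (restrict_smul_inv j M W b x).symm).trans h1).trans
    (restrict_smul_inv j N W b _)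

theorem bijective_resSecHom (V : Y.Opens) : Function.Bijective (resSecHom j V (M := M) (N := N)) := by
  constructor
  · refine (injective_iff_map_eq_zero _).2 fun φ hφ => sec_ext fun W h x => ?_
    have hW := le_image_of_le j h
    show ev φ h x = 0
    have h0 : ev φ (hW.le.trans h) (rs M hW.le x) = 0 :=
      DFunLike.congr_fun (congrFun (congrArg Subtype.val hφ)
        ⟨j ⁻¹ᵁ W, (j.image_le_image_iff _ _).1 (hW.le.trans h)⟩) (rs M hW.le x)
    have h1 : rs N hW.le (ev φ h x) = 0 := (ev_rs φ h hW.le x).trans h0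
    have h2 := congrArg (N.presheaf.map (homOfLE hW.ge).op) h1
    rw [map_zero] at h2
    rw [← h2]
    show _ = rs N hW.ge (rs N hW.le _)
    rw [Groth.L18.Frame.rs_rs, Groth.L18.Frame.rs_self]
  · intro ψ
    have hle : ∀ {W : X.Opens}, W ≤ j ''ᵁ V → j ⁻¹ᵁ W ≤ V := fun {W} h =>
      (j.image_le_image_iff _ _).1 ((le_image_of_le j h).le.trans h)
    let g : ∀ W : {W : X.Opens // W ≤ j ''ᵁ V}, Γ(M, W.1) →+ Γ(N, W.1) := fun W =>
      ((N.presheaf.map (homOfLE (le_image_of_le j W.2).ge).op).hom.comp (evI j ψ (hle W.2))).comp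
        (M.presheaf.map (homOfLE (le_image_of_le j W.2).le).op).hom
    have hg : IsFam M N (j ''ᵁ V) g := by
      refine ⟨fun W W' h h' x => ?_, fun W h a x => ?_⟩
      · show rs N h' (rs N _ (evI j ψ (hle h) (rs M _ x))) = rs N _ (evI j ψ (hle (h'.trans h)) (rs M _ (rs M h' x)))
        have h1 := evI_rs j ψ (hle h) (j.preimage_mono h') (rs M (le_image_of_le j h).le x)
        rw [Groth.L18.Frame.rs_rs] at h1
        rw [Groth.L18.Frame.rs_rs, Groth.L18.Frame.rs_rs, ← h1, Groth.L18.Frame.rs_rs]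
      · show rs N _ (evI j ψ (hle h) (rs M _ (a • x))) = a • rs N _ (evI j ψ (hle h) (rs M _ x))
        rw [Groth.L18.Frame.rs_smul, evI_smul, Groth.L18.Frame.rs_smul, Groth.L18.Frame.ro_ro,
          Groth.L18.Frame.ro_self]
    refine ⟨⟨g, hg⟩, sec_ext fun W h x => ?_⟩
    show rs N _ (evI j ψ _ (rs M _ x)) = evI j ψ h x
    have hW : j ⁻¹ᵁ (j ''ᵁ W) ≤ W := (j.preimage_image_eq W).le
    refine (congrArg (rs N _) (evI_rs j ψ h hW x).symm).trans ?_
    rw [Groth.L18.Frame.rs_rs]
    exact Groth.L18.Frame.rs_self N _ _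

/-- `Hom(M, N)|_U ⟶ Hom(M|_U, N|_U)`. -/
def homRes : (R').obj (homMod M N) ⟶ homMod ((R').obj M) ((R').obj N) :=
  ⟨PresheafOfModules.homMk
    { app := fun V => AddCommGrpCat.ofHom
        (show Γ((R').obj (homMod M N), V.unop) →+ Sec ((R').obj M) ((R').obj N) V.unop from resSecHom j V.unop)
      naturality := fun _ _ _ => rfl }
    (fun V a s => sec_ext fun W h x => by
      show ev (show Sec M N (j ''ᵁ V.unop) from
          (show Γ(homMod M N, j ''ᵁ V.unop) from
            (show Γ(Y, V.unop) from a) • (show Γ((R').obj (homMod M N), V.unop) from s)))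
          (j.image_mono h) x = _
      rw [restrict_smul_inv j (homMod M N) V.unop a s]
      refine Eq.trans ?_ (restrict_smul_inv j N W (Groth.L18.Frame.ro h (show Γ(Y, V.unop) from a)) _).symm
      refine Eq.trans ?_ (congrArg (fun c : Γ(X, j ''ᵁ W) => c • ev (show Sec M N (j ''ᵁ V.unop) from s)
        (j.image_mono h) x) (congr($(j.appIso_inv_naturality (homOfLE h).op) (show Γ(Y, V.unop) from a))).symm)
      rfl)⟩

theorem isIso_homRes : IsIso (homRes j (M := M) (N := N)) := by
  refine Scheme.Modules.Hom.isIso_iff_isIso_app.2 fun V => ?_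
  rw [ConcreteCategory.isIso_iff_bijective]
  exact bijective_resSecHom j V

variable (M)

/-- Restriction commutes with the sheaf of homomorphisms. -/
def homModResIso : homModF M ⋙ R' ≅ R' ⋙ homModF ((R').obj M) :=
  NatIso.ofComponents (fun N => @asIso _ _ _ _ (homRes j (M := M) (N := N)) (isIso_homRes j))
    (fun {N N'} g => hom_ext_ev fun V s W h x => rfl)

theorem injective_restrict (I : X.Modules) [Injective I] : Injective (I.restrict j) := by
  haveI := Groth.L29.DC.ExtZero.preservesFiniteLimits j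
  haveI : (CxOX.extZero j).PreservesMonomorphisms := inferInstance
  exact Injective.injective_of_adjoint (CxOX.extZeroAdj j) _

instance preservesInjective_restrict : (Scheme.Modules.restrictFunctor j).PreservesInjectiveObjects :=
  ⟨fun {I} hI => injective_restrict j I⟩

/-- Ext sheaves restrict to opens. -/
theorem nonempty_extSh_restrict (i : ℕ) [ModSite.HasSheafHom (O := X.sheaf) M]
    [hI : HasInjectiveResolutions (ModSite.Mod X.sheaf)]
    [ModSite.HasSheafHom (O := Y.sheaf) (M.restrict j)]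
    [hI' : HasInjectiveResolutions (ModSite.Mod Y.sheaf)] :
    Nonempty (ModSite.extSh (O := X.sheaf) M i ⋙ R' ≅
      R' ⋙ ModSite.extSh (O := Y.sheaf) (M.restrict j) i) := by
  haveI : HasInjectiveResolutions X.Modules := hI
  haveI : HasInjectiveResolutions Y.Modules := hI'
  haveI hA : (R').Additive := inferInstance
  haveI hl : PreservesFiniteLimits (R') := inferInstance
  haveI hr : PreservesFiniteColimits (R') := inferInstance
  haveI : (ModSite.sheafHom (O := X.sheaf) M).Additive := (ModSite.sheafHomAdj _).right_adjoint_additive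
  haveI : (ModSite.sheafHom (O := Y.sheaf) (M.restrict j)).Additive :=
    (ModSite.sheafHomAdj _).right_adjoint_additive
  obtain ⟨e⟩ := Groth.L04.FunctorLES.nonempty_precomp_iso (R')
    (ModSite.sheafHom (O := Y.sheaf) (M.restrict j)) i
  exact ⟨(Groth.L15.ModTensor.postcompIso (ModSite.sheafHom (O := X.sheaf) M) (R') i).symm ≪≫
    Groth.L15.ModTensor.rdIso (Functor.isoWhiskerRight (homModSiteIso M) (R') ≪≫ homModResIso j M ≪≫
      Functor.isoWhiskerLeft _ (homModSiteIso _).symm) i ≪≫ e⟩

end Groth.L22.ExtSh
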