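import Groth.Agent.L22.ExtSh.Vanish
import Groth.Agent.L22.PDual.EnriquesSeveri
import Groth.Agent.L22.FibreSemicont
import Groth.Agent.S4889
import Groth.Agent.L06.DimLftJacobson

/-!
`Ext^q(F_x, O_x) = 0` below the codimension of the support on regular schemes over a field.
-/

set_option autoImplicit false
set_option backward.isDefEq.respectTransparency false
set_option linter.style.haveILetI false
universe u

open CategoryTheory CategoryTheory.Limits AlgebraicGeometry TopologicalSpace Opposite
open IsLocalRing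

noncomputable section

namespace Groth.L22.ExtSh

/-- Over a regular local ring. -/
theorem subsingleton_ext_of_supportDim_lt {A : Type u} [CommRing A] [IsRegularLocalRing A] {b : ℕ}
    (hb : ringKrullDim A = b) (M : Type u) [AddCommGroup M] [Module A M] [Module.Finite A M] {q : ℕ}
    (h : Module.supportDim A M + q < b) :
    Subsingleton (CategoryTheory.Abelian.Ext (ModuleCat.of A M) (ModuleCat.of A A) q) := by
  rcases subsingleton_or_nontrivial M with hM | hM
  · exact subsingleton_of_forall_eq 0 fun z => by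
      have h0 : 𝟙 (ModuleCat.of A M) = 0 := (ModuleCat.isZero_of_subsingleton _).eq_of_src _ _
      rw [← z.mk₀_id_comp, h0, CategoryTheory.Abelian.Ext.mk₀_zero, CategoryTheory.Abelian.Ext.zero_comp]
  · have hne : Module.supportDim A M ≠ ⊥ := by
      rwa [Module.supportDim_ne_bot_iff_nontrivial]
    obtain ⟨s, hs⟩ : ∃ s : ℕ, Module.supportDim A M = s := by
      have hle := Module.supportDim_le_ringKrullDim A M
      rw [hb] at hle
      match Module.supportDim A M, hne, hle with
      | (some (some s)), _, _ => exact ⟨s, rfl⟩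
      | ⊥, hne, _ => exact absurd rfl hne
      | ⊤, _, hle => exact absurd (top_le_iff.1 hle) (by exact WithBot.coe_injective.ne (ENat.natCast_ne_top b))
    rw [hs] at h
    have hsq : s + q < b := by exact_mod_cast h
    have h1 := (Groth.L22.PDual.subsingleton_H_iff hb M (i := b - q) (by omega)).1
      (Groth.L04.LC.subsingleton_H_of_supportDim_lt _ _ _ (by
        rw [hs]; exact_mod_cast (show s < b - q by omega)))
    rwa [show b - (b - q) = q by omega] at h1

theorem isUniversallyCatenary_stalk_field {k : Type u} [Field k] (s : Spec (CommRingCat.of k)) :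
    CAlg.IsUniversallyCatenary ((Spec (CommRingCat.of k)).presheaf.stalk s) := by
  haveI := Groth.L21.Smooth.regular_stalk (𝟙 (Spec (CommRingCat.of k))) s
  exact Groth.L06.DimLftJacobson.isUniversallyCatenary_of_regularLocal _

theorem dim_point_eq {k : Type u} [Field k] (S' : Set (Spec (CommRingCat.of k))) (s : Spec (CommRingCat.of k))
    (hs : s ∈ S') : topologicalKrullDim ↥S' = topologicalKrullDim ↥{t | t ∈ S' ∧ t ⤳ s} := by
  haveI : Subsingleton ↥(Spec (CommRingCat.of k)) := inferInstanceAs (Subsingleton (PrimeSpectrum k))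
  rw [show {t | t ∈ S' ∧ t ⤳ s} = S' from Set.ext fun t =>
    ⟨fun h => h.1, fun h => ⟨h, specializes_of_eq (Subsingleton.elim t s)⟩⟩]

theorem le_localDim_of_equidim (k : Type u) [Field k] {X : Scheme.{u}} [X.Over (Spec (CommRingCat.of k))]
    [LocallyOfFiniteType (X ↘ Spec (CommRingCat.of k))] {n : ℕ}
    (hX : ∀ Z : Set ↥X, Z ∈ irreducibleComponents ↥X → topologicalKrullDim ↥Z = (n : WithBot ℕ∞)) (x : X) :
    (n : WithBot ℕ∞) ≤ FlatMor.localDim X x := by
  rw [Groth.L22.FibreSemicont.localDim_eq_iSup k x]
  have hC := irreducibleComponent_mem_irreducibleComponents x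
  obtain ⟨η, hη⟩ := QuasiSober.sober hC.1 (isClosed_of_mem_irreducibleComponents _ hC)
  refine le_iSup_of_le ⟨η, hη.specializes mem_irreducibleComponent⟩ ?_
  rw [hη.def]
  exact (hX _ hC).ge

theorem subsingleton_ext_stalk {k : Type u} [Field k] {X : Scheme.{u}} [X.Over (Spec (CommRingCat.of k))]
    [LocallyOfFiniteType (X ↘ Spec (CommRingCat.of k))] (x : X) [IsRegularLocalRing (X.presheaf.stalk x)]
    {n : ℕ} (hn : (n : WithBot ℕ∞) ≤ FlatMor.localDim X x) {F : X.Modules} (hF : Coh.IsCoh F) {q : ℕ}
    (hq : topologicalKrullDim (CohB1.support F) + q < (n : WithBot ℕ∞)) :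
    Subsingleton (CategoryTheory.Abelian.Ext (ModuleCat.of (X.presheaf.stalk x) (F.presheaf.stalk x))
      (ModuleCat.of (X.presheaf.stalk x) (X.presheaf.stalk x)) q) := by
  let g := X ↘ Spec (CommRingCat.of k)
  haveI : IsLocallyNoetherian X := LocallyOfFiniteType.isLocallyNoetherian g
  haveI := Groth.L06.SupportStalk.finite_stalk F hF x
  obtain ⟨a, b, ha, hb, hloc⟩ := Groth.L22.SchemeDim.exists_localDim k X x
  by_cases hx : x ∈ CohB1.support F
  · have hS := Groth.Agent.S4889.result (X := X) (S := Spec (CommRingCat.of k))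
      (isUniversallyCatenary_stalk_field (k := k))
      (fun S' _ s hs _ => dim_point_eq S' s hs) g F hF x hx
    obtain ⟨m, hm, htr⟩ := Groth.L22.SchemeDim.exists_dim_closure_eq_trdeg k X x
    obtain rfl : a = m := by exact_mod_cast ha.symm.trans htr
    rw [hm] at hS
    refine subsingleton_ext_of_supportDim_lt hb _ ?_
    have h1 : FlatMor.localDim ↥(CohB1.support F) ⟨x, hx⟩ ≤ topologicalKrullDim (CohB1.support F) :=
      iInf_le_of_le ⟨⊤, trivial⟩ (topologicalKrullDim_subspace_le _ _)
    rw [← hS] at h1
    rw [hloc] at hn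
    have h2 : ((a : WithBot ℕ∞) + Module.supportDim (X.presheaf.stalk x) (F.presheaf.stalk x)) + q <
        ((a + b : ℕ) : WithBot ℕ∞) :=
      lt_of_le_of_lt (add_le_add_left h1 _) (hq.trans_le hn)
    rw [Nat.cast_add, add_assoc] at h2
    exact lt_of_add_lt_add_left h2
  · haveI : Subsingleton (F.presheaf.stalk x) := not_not.1 hx
    refine subsingleton_of_forall_eq 0 fun z => ?_
    have h0 : 𝟙 (ModuleCat.of (X.presheaf.stalk x) (F.presheaf.stalk x)) = 0 :=
      (ModuleCat.isZero_of_subsingleton _).eq_of_src _ _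
    rw [← z.mk₀_id_comp, h0, CategoryTheory.Abelian.Ext.mk₀_zero, CategoryTheory.Abelian.Ext.zero_comp]

end Groth.L22.ExtSh
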