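import Groth.Agent.L22.ExtSh.NatDual
import Groth.Agent.L22.ExtSh.DualSheaf
import Groth.Agent.L16.Supp.ClosedNat

/-!
The dualizing sheaf of a closed subscheme of projective space.
-/

set_option autoImplicit false
set_option backward.isDefEq.respectTransparency false
set_option linter.style.haveILetI false
universe u

open CategoryTheory CategoryTheory.Limits CategoryTheory.Abelian AlgebraicGeometry TopologicalSpace Opposite

noncomputable section

namespace Groth.L22.ClosedDual

open Groth.L16
open Groth.L16.CohLinear (overLin tm tF)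
open Groth.L22.PDual (tr ω')
open Groth.L22.NatDual (pair pair_mk₀ pair_mk₀_comp)

variable {k : Type u} [Field k] {N : ℕ}

/-- The pairing on projective space is perfect. -/
theorem bijective_pair_proj [HasExt.{u} (CohB1.ProjSpace N k).Modules] {c j : ℕ} (h : j + c = N)
    {G : (CohB1.ProjSpace N k).Modules} (hG : Coh.IsCoh G) : Function.Bijective (pair (tr N k) G h) := by
  haveI := Groth.L22.PDual.proper N k
  haveI := Groth.L21.RR.isNoetherian_of_proper (X := CohB1.ProjSpace N k) k
  refine Groth.L22.NatDual.bijective_pair (tr N k) (fun G hG => ?_) N (fun G hG => ?_) c (by omega) h G hG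
  · have : (fun a => pair (tr N k) G (add_zero N) a) ∘ Ext.mk₀ = fun φ => Groth.L22.PDual.B G φ :=
      funext fun φ => LinearMap.ext fun x => pair_mk₀ (tr N k) φ x
    exact (Function.Bijective.of_comp_iff _ (Ext.mk₀_bijective G (ω' N k))).1
      (this ▸ Groth.L22.PDual.bijective_B hG)
  · obtain ⟨q, r, p, hq, hp⟩ := Groth.L22.PDual.exists_epi_twists hG (N + 1)
    have hE := Groth.L22.PDual.isCoh_sum (n := N) (k := k) r (-(q : ℤ))
    exact ⟨kernel p, _, kernel.ι p, p, kernel.condition p, { exact := ShortComplex.exact_kernel p },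
      (CohKernel.isCoh_kernel_cokernel hE hG p).1, hE, Groth.L22.PDual.subsingleton_ext_sum r q hq,
      fun l hl _ => Groth.L22.PDual.subsingleton_HH_sum r q (by omega) (by omega)⟩

variable {X : Scheme.{u}} [X.Over (Spec (CommRingCat.of k))] (ι : X ⟶ CohB1.ProjSpace N k) [IsClosedImmersion ι]

/-- The Ext sheaf in codimension `c` is dualizing. -/
theorem exists_trace (hι : ι ≫ CohB1.ProjSpace.toSpec N k = X ↘ Spec (CommRingCat.of k))
    [ModSite.HasSheafHom (O := (CohB1.ProjSpace N k).sheaf) ((Scheme.Modules.pushforward ι).obj (Coh.structureModule X))]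
    [HasInjectiveResolutions (ModSite.Mod (CohB1.ProjSpace N k).sheaf)]
    {r c : ℕ} (hrc : r + c = N) (hdim : topologicalKrullDim ↥X + (c : WithBot ℕ∞) ≤ (N : WithBot ℕ∞))
    {ω : X.Modules}
    (hω : Nonempty ((Scheme.Modules.pushforward ι).obj ω ≅ (ModSite.extSh (O := (CohB1.ProjSpace N k).sheaf)
      ((Scheme.Modules.pushforward ι).obj (Coh.structureModule X)) c).obj
        (Twist.twistProjSpace N k (-((N : ℤ) + 1))))) :
    ∃ t : Coh.HH X ω r →ₗ[k] k, Groth.L22.DualCM.IsDual t := by
  haveI := Groth.L22.PDual.proper N k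
  haveI := Groth.L21.RR.isNoetherian_of_proper (X := CohB1.ProjSpace N k) k
  haveI := Groth.L00.Tensor.grothendieckAbelian_modules (CohB1.ProjSpace N k)
  haveI : HasExt.{u} (CohB1.ProjSpace N k).Modules := inferInstance
  obtain ⟨ε, hε⟩ := Groth.L22.DualSheaf.exists_class ι (Twist.twistProjSpace N k (-((N : ℤ) + 1))) c
    (fun q hq => Groth.L22.ExtSh.isZero_extSh_push_projSpace ι hdim
      (Groth.L20.ResDescent.isFinLocFree_of_isInvertible (Groth.L16.ProjTwist.isInvertible_twistProjSpace N k _))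
      q hq) ω hω
  obtain ⟨E, hE⟩ := Groth.L16.Supp.exists_natural ι r
  let push := Coh.push ι
  have hlin : ∀ (M : X.Modules) (a : k) (x : Coh.HH (CohB1.ProjSpace N k) (push.obj M) r),
      E M (a • x) = a • E M x := fun M a x => by
    rw [← Rees.hmap_smulMod, Groth.L16.Supp.smulMod_push ι hι, hE, Rees.hmap_smulMod]
  let EL : ∀ M : X.Modules, Coh.HH (CohB1.ProjSpace N k) (push.obj M) r ≃ₗ[k] Coh.HH X M r := fun M =>
    { E M with map_smul' := hlin M }
  let T := pair (tr N k) (push.obj ω) hrc ε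
  let t : Coh.HH X ω r →ₗ[k] k := T.comp (EL ω).symm.toLinearMap
  refine ⟨t, fun F hF ψ => ?_⟩
  have hFP : Coh.IsCoh (push.obj F) := Groth.L16.CohClosedPush.isCoh_push ι hF
  have hval : ∀ (φ : F ⟶ ω) (x : Coh.HH (CohB1.ProjSpace N k) (push.obj F) r),
      pair (tr N k) (push.obj F) hrc ((Ext.mk₀ (push.map φ)).comp ε (zero_add c)) x =
        t (CohLinear.hmap φ r (EL F x)) := fun φ x => by
    rw [pair_mk₀_comp]
    refine congrArg T ?_
    exact ((EL ω).symm_apply_eq.2 (hE φ x).symm).symm
  obtain ⟨a, ha⟩ := (bijective_pair_proj hrc hFP).2 (ψ.comp (EL F).toLinearMap)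
  obtain ⟨φ, rfl⟩ := (hε F).2 a
  refine ⟨φ, fun y => ?_, fun φ' hφ' => ?_⟩
  · obtain ⟨x, rfl⟩ := (EL F).surjective y
    exact ((hval φ x).symm.trans (LinearMap.congr_fun ha x)).symm
  · refine (hε F).1 ((bijective_pair_proj hrc hFP).1 ?_)
    rw [ha]
    exact LinearMap.ext fun x => (hval φ' x).trans (hφ' (EL F x)).symm

end Groth.L22.ClosedDual
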