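import Groth.Agent.L22.ExtSh.DualSheaf

/-!
Ext sheaves out of the structure sheaf of a closed subscheme come from the subscheme.
-/

set_option autoImplicit false
set_option backward.isDefEq.respectTransparency false
set_option linter.style.haveILetI false
universe u

open CategoryTheory CategoryTheory.Limits AlgebraicGeometry

noncomputable section

namespace Groth.L22.DualSheaf

open Groth.L16.HomSh (homModF)

/-- `Ext^q(ι_* O, G)` is the direct image of a module of the subscheme. -/
theorem exists_extSh_eq_push {X P : Scheme.{u}} (ι : X ⟶ P) [IsClosedImmersion ι]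
    [ModSite.HasSheafHom (O := P.sheaf) ((Scheme.Modules.pushforward ι).obj (Coh.structureModule X))]
    [HasInjectiveResolutions (ModSite.Mod P.sheaf)] (G : P.Modules) (q : ℕ) :
    ∃ W : X.Modules, Nonempty ((Scheme.Modules.pushforward ι).obj W ≅ (ModSite.extSh (O := P.sheaf)
      ((Scheme.Modules.pushforward ι).obj (Coh.structureModule X)) q).obj G) := by
  haveI : HasInjectiveResolutions P.Modules := ‹HasInjectiveResolutions (ModSite.Mod P.sheaf)›
  haveI : Dual3.HasHomO ι := Groth.L17.ClosedPush.isLeftAdjoint_push ι
  let push := Scheme.Modules.pushforward ι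
  let A := push.obj (Coh.structureModule X)
  haveI := (Scheme.Modules.pullbackPushforwardAdjunction ι).isRightAdjoint
  haveI : PreservesFiniteLimits push := inferInstance
  haveI : PreservesFiniteColimits push := inferInstance
  haveI : push.Additive := (Dual3.homOAdj ι).left_adjoint_additive
  haveI := Groth.L22.ExtSh.additive_homModF A
  let I := injectiveResolution G
  let J := ((Dual3.homO ι).mapHomologicalComplex _).obj I.cocomplex
  obtain ⟨κ⟩ := nonempty_homO_push ι
  obtain ⟨e⟩ := Groth.L22.ExtSh.nonempty_extSh_iso A G q
  exact ⟨J.homology q, ⟨(e ≪≫ I.isoRightDerivedObj (homModF A) q ≪≫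
    (HomologicalComplex.homologyFunctor P.Modules (ComplexShape.up ℕ) q).mapIso
      ((NatIso.mapHomologicalComplex κ.symm (ComplexShape.up ℕ)).app I.cocomplex) ≪≫
    (J.sc q).mapHomologyIso push).symm⟩⟩

end Groth.L22.DualSheaf
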