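import Groth.Agent.L22.ExtSh.SpecExt
import Groth.Agent.L22.ExtSh.RestrictHom
import Groth.Agent.L20.ModStalk
import Groth.Agent.L04.SupportSh.Affine
import Groth.Agent.L17.PushQCoh

/-!
Sections of Ext sheaves over affine opens.
-/

set_option autoImplicit false
set_option backward.isDefEq.respectTransparency false
set_option linter.style.haveILetI false
universe u

open CategoryTheory CategoryTheory.Limits CategoryTheory.Abelian AlgebraicGeometry TopologicalSpace Opposite

noncomputable section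

namespace Groth.L22.ExtSh

variable {X : Scheme.{u}} {V : X.Opens} (hV : IsAffineOpen V)

/-- Sections over an affine open, as global sections on the spectrum. -/
theorem nonempty_sectionsEquiv (E : X.Modules) :
    Nonempty (((moduleSpecΓFunctor (R := Γ(X, V))).obj (E.restrict hV.fromSpec) : ModuleCat.{u} Γ(X, V)) ≃ₗ[Γ(X, V)]
      Γ(E, V)) := by
  let j := hV.fromSpec
  let N : ModuleCat.{u} Γ(X, V) := (moduleSpecΓFunctor (R := Γ(X, V))).obj (E.restrict j)
  have e2 : j ''ᵁ (⊤ : (Spec Γ(X, V)).Opens) = V := by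
    rw [Scheme.Hom.image_top_eq_opensRange, hV.opensRange_fromSpec]
  let el : N →ₗ[Γ(X, V)] Γ(E, V) :=
    { toFun := fun s => Groth.L18.Frame.rs E e2.ge (show Γ(E, j ''ᵁ ⊤) from s)
      map_add' := fun a b => map_add (E.presheaf.map (homOfLE e2.ge).op).hom a b
      map_smul' := fun r s =>
        Groth.L20.ModStalk.finitePresentation_sections_affine.appIso_smul E hV r (show Γ(E, j ''ᵁ ⊤) from s) }
  have hel : Function.Bijective el := Function.bijective_iff_has_inverse.2
    ⟨fun t => (show Γ(E, j ''ᵁ ⊤) from Groth.L18.Frame.rs E e2.le t),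
      fun s => by
        show Groth.L18.Frame.rs E e2.le (Groth.L18.Frame.rs E e2.ge (show Γ(E, j ''ᵁ ⊤) from s)) = _
        rw [Groth.L18.Frame.rs_rs]
        exact Groth.L18.Frame.rs_self E _ _,
      fun t => by
        show Groth.L18.Frame.rs E e2.ge (Groth.L18.Frame.rs E e2.le t) = t
        rw [Groth.L18.Frame.rs_rs]
        exact Groth.L18.Frame.rs_self E _ _⟩
  exact ⟨LinearEquiv.ofBijective el hel⟩

/-- Ext is linear in isomorphisms. -/
theorem nonempty_ext_congr {R : Type u} [CommRing R] {A A' B B' : ModuleCat.{u} R} (a : A' ≅ A) (b : B ≅ B')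
    (i : ℕ) : Nonempty (Ext A B i ≃ₗ[R] Ext A' B' i) :=
  ⟨{ toFun := fun z => (Ext.mk₀ a.hom).comp (z.comp (Ext.mk₀ b.hom) (add_zero i)) (zero_add i)
     map_add' := fun z w => by simp
     map_smul' := fun r z => by simp
     invFun := fun z => (Ext.mk₀ a.inv).comp (z.comp (Ext.mk₀ b.inv) (add_zero i)) (zero_add i)
     left_inv := fun z => by simp
     right_inv := fun z => by simp }⟩

/-- `Γ(V, Ext^i(F, G)) = Ext^i(F(V), G(V))`. -/
theorem nonempty_sections_extSh [IsLocallyNoetherian X] (hV : IsAffineOpen V) {F G : X.Modules}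
    (hF : Coh.IsCoh F) [Coh.IsQCoh G]
    [ModSite.HasSheafHom (O := X.sheaf) F] [HasInjectiveResolutions (ModSite.Mod X.sheaf)] (i : ℕ) :
    Nonempty (Γ((ModSite.extSh (O := X.sheaf) F i).obj G, V) ≃ₗ[Γ(X, V)]
      Ext (ModuleCat.of Γ(X, V) Γ(F, V)) (ModuleCat.of Γ(X, V) Γ(G, V)) i) := by
  let R : CommRingCat.{u} := Γ(X, V)
  let j := hV.fromSpec
  haveI : Coh.IsQCoh F := hF.1
  haveI := IsLocallyNoetherian.component_noetherian ⟨V, hV⟩
  haveI := Groth.L20.ModStalk.finite_sections F hF hV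
  let M : ModuleCat.{u} R := (moduleSpecΓFunctor (R := R)).obj (F.restrict j)
  let N : ModuleCat.{u} R := (moduleSpecΓFunctor (R := R)).obj (G.restrict j)
  obtain ⟨eF⟩ := nonempty_sectionsEquiv hV F
  obtain ⟨eG⟩ := nonempty_sectionsEquiv hV G
  haveI : Module.Finite R M := Module.Finite.equiv eF.symm
  haveI : (F.restrict j).IsQuasicoherent := Scheme.Modules.isQuasicoherent_restrictFunctor j F
  haveI : (G.restrict j).IsQuasicoherent := Scheme.Modules.isQuasicoherent_restrictFunctor j G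
  let cF : tilde M ≅ F.restrict j := Groth.L18.TildeF.counitIso (F.restrict j)
  let cG : tilde N ≅ G.restrict j := Groth.L18.TildeF.counitIso (G.restrict j)
  haveI := Groth.L17.Duality.hasSheafHom (F.restrict j)
  haveI := Groth.L17.Duality.hasSheafHom (tilde M)
  haveI : HasInjectiveResolutions (ModSite.Mod (Spec R).sheaf) :=
    Groth.L17.PushQCoh.hasInjectiveResolutions (Spec R)
  haveI : HasInjectiveResolutions (Spec R).Modules := ‹HasInjectiveResolutions (ModSite.Mod (Spec R).sheaf)›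
  haveI : (ModSite.sheafHom (O := (Spec R).sheaf) (F.restrict j)).Additive :=
    (ModSite.sheafHomAdj _).right_adjoint_additive
  haveI : (ModSite.sheafHom (O := (Spec R).sheaf) (tilde M)).Additive :=
    (ModSite.sheafHomAdj _).right_adjoint_additive
  obtain ⟨e⟩ := nonempty_extSh_restrict j F i
  obtain ⟨e₁⟩ := nonempty_extSh_tilde M N i
  let e₀ : (Scheme.Modules.restrictFunctor j).obj ((ModSite.extSh (O := X.sheaf) F i).obj G) ≅ tilde (ModuleCat.of R (Ext M N i)) :=
    e.app G ≪≫ (Groth.L15.ModTensor.rdIso (Groth.L17.Duality.homCongr cF.symm) i).app _ ≪≫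
      (ModSite.extSh (O := (Spec R).sheaf) (tilde M) i).mapIso cG.symm ≪≫ e₁
  obtain ⟨eE⟩ := nonempty_sectionsEquiv hV ((ModSite.extSh (O := X.sheaf) F i).obj G)
  obtain ⟨c⟩ := nonempty_ext_congr (R := R) (A := M) (B := N) (A' := ModuleCat.of R Γ(F, V))
    (B' := ModuleCat.of R Γ(G, V)) eF.symm.toModuleIso eG.toModuleIso i
  exact ⟨eE.symm ≪≫ₗ ((moduleSpecΓFunctor (R := R)).mapIso e₀).toLinearEquiv ≪≫ₗ
    (tilde.isoTop (ModuleCat.of R (Ext M N i))).toLinearEquiv.symm ≪≫ₗ c⟩

end Groth.L22.ExtSh
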