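import Groth.Agent.L15.Ref.Stalk

/-!
Stalks of the sheaf of homomorphisms out of a coherent module into an arbitrary module.
-/

set_option autoImplicit false
set_option backward.isDefEq.respectTransparency false
set_option linter.style.haveILetI false
universe u

open CategoryTheory CategoryTheory.Limits AlgebraicGeometry TopologicalSpace Opposite

noncomputable section

namespace Groth.L22.ExtSh

open Groth.L18.Frame (rs ro rs_rs rs_smul)
open Groth.L20.ModStalk (germ_rs germ_smul)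

variable {X : Scheme.{u}} (M N : X.Modules)

/-- A linear map of stalks comes from a linear map of sections on a small affine neighbourhood. -/
theorem exists_linear_near [IsLocallyNoetherian X] (hM : Coh.IsCoh M) (x : X)
    (f : M.presheaf.stalk x →ₗ[X.presheaf.stalk x] N.presheaf.stalk x) :
    ∃ (D : X.Opens) (hD : IsAffineOpen D) (hxD : x ∈ D) (ψ : Γ(M, D) →ₗ[Γ(X, D)] Γ(N, D)),
      ∀ m, N.presheaf.germ D x hxD (ψ m) = f (M.presheaf.germ D x hxD m) := by
  classical
  haveI : Coh.IsQCoh M := hM.1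
  obtain ⟨V, hV, hxV, -⟩ := exists_isAffineOpen_mem_and_subset (x := x) (U := ⊤) trivial
  haveI : IsNoetherianRing Γ(X, V) := IsLocallyNoetherian.component_noetherian ⟨V, hV⟩
  haveI := Groth.L20.ModStalk.finite_sections M hM hV
  obtain ⟨b, π, hπ⟩ := Module.Finite.exists_fin' Γ(X, V) Γ(M, V)
  obtain ⟨S, hS⟩ := IsNoetherian.noetherian (LinearMap.ker π)
  choose Wn hWn hxn n hn using fun i : Fin b =>
    Groth.L15.Ref.exists_rep (M := N) hxV (f (M.presheaf.germ V x hxV (π (Pi.single i 1))))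
  let W : X.Opens := ⟨(V : Set X) ∩ ⋂ i, (Wn i : Set X), V.2.inter (isOpen_iInter_of_finite fun i => (Wn i).2)⟩
  have hxW : x ∈ W := ⟨hxV, Set.mem_iInter.2 hxn⟩
  have hWV : W ≤ V := fun z hz => hz.1
  have hWi : ∀ i, W ≤ Wn i := fun i z hz => Set.mem_iInter.1 hz.2 i
  letI : Module Γ(X, V) Γ(N, W) := Module.compHom _ (X.presheaf.map (homOfLE hWV).op).hom
  let L : (Fin b → Γ(X, V)) →ₗ[Γ(X, V)] Γ(N, W) :=
    (Pi.basisFun Γ(X, V) (Fin b)).constr Γ(X, V) fun i => rs N (hWi i) (n i)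
  have hLsingle : ∀ i, L (Pi.single i 1) = rs N (hWi i) (n i) := fun i => by
    rw [← Pi.basisFun_apply, Module.Basis.constr_basis]
  have hgsmul : ∀ (r : Γ(X, V)) (z : Γ(N, W)),
      N.presheaf.germ W x hxW (r • z) = X.presheaf.germ V x hxV r • N.presheaf.germ W x hxW z := fun r z => by
    show N.presheaf.germ W x hxW (ro hWV r • z) = _
    rw [germ_smul]
    exact congrArg (· • _) (TopCat.Presheaf.germ_res_apply X.presheaf (homOfLE hWV) x hxW r)
  have hLgerm : ∀ v, N.presheaf.germ W x hxW (L v) = f (M.presheaf.germ V x hxV (π v)) := fun v => by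
    have hv : v = ∑ i, v i • (Pi.single i 1 : Fin b → Γ(X, V)) := by
      funext j
      simp [Pi.single_apply]
    rw [hv, map_sum L, map_sum π]
    simp only [map_sum, map_smul, hgsmul, hLsingle, germ_rs, hn, germ_smul]
  have hrel : ∀ v : Fin b → Γ(X, V), ∃ W' : X.Opens, x ∈ W' ∧ (v ∈ LinearMap.ker π →
      ∀ (D : X.Opens) (h : D ≤ W), D ≤ W' → rs N h (L v) = 0) := fun v => by
    by_cases hv : v ∈ LinearMap.ker π
    · have h0 : N.presheaf.germ W x hxW (L v) = N.presheaf.germ W x hxW 0 := by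
        rw [hLgerm, LinearMap.mem_ker.1 hv, map_zero, map_zero, map_zero]
      obtain ⟨W', hxW', i, i', e⟩ := TopCat.Presheaf.germ_eq N.presheaf x hxW hxW _ _ h0
      refine ⟨W', hxW', fun _ D h hD => ?_⟩
      have e' : rs N i.le (L v) = 0 := e.trans (map_zero _)
      rw [← rs_rs N i.le hD, e', show rs N hD (0 : Γ(N, W')) = 0 from map_zero _]
    · exact ⟨⊤, trivial, fun h => absurd h hv⟩
  choose Wr hxr hr using hrel
  let W' : X.Opens := ⟨(W : Set X) ∩ ⋂ v ∈ S, (Wr v : Set X),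
    W.2.inter (isOpen_biInter_finset fun v _ => (Wr v).2)⟩
  obtain ⟨a, haW, hxa⟩ := hV.exists_basicOpen_le (V := W') ⟨x, hxW, Set.mem_iInter₂.2 fun v _ => hxr v⟩ hxV
  let D := X.basicOpen a
  have hDV : D ≤ V := X.basicOpen_le a
  have hDW : D ≤ W := fun z hz => (haW hz).1
  letI : Module Γ(X, V) Γ(N, D) := Module.compHom _ (X.presheaf.map (homOfLE hDV).op).hom
  letI : Module Γ(X, V) Γ(M, D) := Module.compHom _ (X.presheaf.map (homOfLE hDV).op).hom
  letI : Algebra Γ(X, V) Γ(X, D) := (X.presheaf.map (homOfLE hDV).op).hom.toAlgebra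
  haveI : IsScalarTower Γ(X, V) Γ(X, D) Γ(M, D) := IsScalarTower.of_algebraMap_smul fun _ _ => rfl
  haveI : IsScalarTower Γ(X, V) Γ(X, D) Γ(N, D) := IsScalarTower.of_algebraMap_smul fun _ _ => rfl
  haveI : IsLocalization.Away a Γ(X, D) := hV.isLocalization_basicOpen a
  let res : Γ(N, W) →ₗ[Γ(X, V)] Γ(N, D) :=
    { toFun := fun z => rs N hDW z
      map_add' := fun p q => map_add _ p q
      map_smul' := fun r z => by
        show rs N hDW (ro hWV r • z) = ro hDV r • rs N hDW z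
        rw [rs_smul, Groth.L18.Frame.ro_ro] }
  have hker : LinearMap.ker π ≤ LinearMap.ker (res.comp L) := by
    rw [← hS, Submodule.span_le]
    intro v hv
    exact hr v (hS ▸ Submodule.subset_span hv) D hDW
      fun z hz => Set.mem_iInter₂.1 (haW hz).2 v hv
  let ψ₀ : Γ(M, V) →ₗ[Γ(X, V)] Γ(N, D) :=
    (LinearMap.ker π).liftQ (res.comp L) hker ∘ₗ (π.quotKerEquivOfSurjective hπ).symm.toLinearMap
  have hψ₀ : ∀ v, ψ₀ (π v) = rs N hDW (L v) := fun v => by
    show (LinearMap.ker π).liftQ _ hker ((π.quotKerEquivOfSurjective hπ).symm (π v)) = _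
    rw [show (π.quotKerEquivOfSurjective hπ).symm (π v) = Submodule.Quotient.mk v from
      (LinearEquiv.symm_apply_eq _).2 rfl]
    rfl
  let resM : Γ(M, V) →ₗ[Γ(X, V)] Γ(M, D) :=
    { toFun := fun s => rs M hDV s
      map_add' := fun p q => map_add _ p q
      map_smul' := fun r s => rs_smul M hDV r s }
  haveI : IsLocalizedModule (Submonoid.powers a) resM := Groth.L20.ModStalk.isLocalizedModule_res M hV a
  have hu : ∀ s : Submonoid.powers a, IsUnit (algebraMap Γ(X, V) (Module.End Γ(X, V) Γ(N, D)) s) := fun s => by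
    obtain ⟨w, hw⟩ := (IsLocalization.map_units (S := Γ(X, D)) s).exists_right_inv
    rw [Module.End.isUnit_iff]
    refine Function.bijective_iff_has_inverse.mpr ⟨fun z => w • z, fun z => ?_, fun z => ?_⟩
    · show w • ((s : Γ(X, V)) • z) = z
      rw [← algebraMap_smul Γ(X, D) (s : Γ(X, V)) z, smul_smul, mul_comm, hw, one_smul]
    · show (s : Γ(X, V)) • (w • z) = z
      rw [← algebraMap_smul Γ(X, D) (s : Γ(X, V)), smul_smul, hw, one_smul]
  let ψ : Γ(M, D) →ₗ[Γ(X, D)] Γ(N, D) :=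
    (IsLocalizedModule.lift (Submonoid.powers a) resM ψ₀ hu).extendScalarsOfIsLocalization
      (Submonoid.powers a) Γ(X, D)
  have hψ : ∀ m, ψ (rs M hDV m) = ψ₀ m := fun m => IsLocalizedModule.lift_apply (Submonoid.powers a) resM ψ₀ hu m
  refine ⟨D, hV.basicOpen a, hxa, ψ, fun m => ?_⟩
  obtain ⟨⟨m₀, s⟩, hms⟩ := IsLocalizedModule.surj (Submonoid.powers a) resM m
  obtain ⟨v, rfl⟩ := hπ m₀
  have hs : IsUnit (X.presheaf.germ D x hxa (algebraMap Γ(X, V) Γ(X, D) s)) :=
    (IsLocalization.map_units (S := Γ(X, D)) s).map _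
  have hms' : algebraMap Γ(X, V) Γ(X, D) s • m = rs M hDV (π v) := hms
  refine hs.smul_left_cancel.1 ?_
  rw [← germ_smul, ← map_smul ψ, hms', hψ, hψ₀, germ_rs, hLgerm, ← map_smul f, ← germ_smul, hms', germ_rs]

/-- The evaluation at the stalk is bijective for coherent `M` and any `N`. -/
theorem evalStalk_surjective [IsLocallyNoetherian X] (hM : Coh.IsCoh M) (x : X) :
    Function.Surjective (RefHull.evalStalk M N x) := by
  intro f
  haveI : Coh.IsQCoh M := hM.1
  obtain ⟨D, hD, hxD, ψ, hψ⟩ := exists_linear_near M N hM x f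
  obtain ⟨g, hg⟩ := Groth.L15.Ref.exists_sec_of_linear M N hD ψ
  refine ⟨(RefHull.homSh M N).presheaf.germ D x hxD g, ?_⟩
  rw [RefHull.evalStalk_germ]
  refine LinearMap.ext fun v => ?_
  letI := Groth.L20.ModStalk.stalkModule M hxD
  haveI := Groth.L20.ModStalk.isLocalizedModule_germ M hD hxD
  obtain ⟨⟨m, t⟩, hmt⟩ := IsLocalizedModule.surj (hD.primeIdealOf ⟨x, hxD⟩).asIdeal.primeCompl
    (Groth.L20.ModStalk.germₗ M hxD) v
  letI := X.presheaf.algebra_section_stalk (⟨x, hxD⟩ : D)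
  haveI := hD.isLocalization_stalk ⟨x, hxD⟩
  have ht : IsUnit (X.presheaf.germ D x hxD (t : Γ(X, D))) := IsLocalization.map_units (X.presheaf.stalk x) t
  refine ht.smul_left_cancel.1 ?_
  have hmt' : X.presheaf.germ D x hxD (t : Γ(X, D)) • v = M.presheaf.germ D x hxD m := hmt
  rw [← map_smul, ← map_smul f, hmt', hg x hxD m, hψ]

theorem evalStalk_injective [IsLocallyNoetherian X] (hM : Coh.IsCoh M) (x : X) :
    Function.Injective (RefHull.evalStalk M N x) := by
  classical
  haveI : Coh.IsQCoh M := hM.1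
  obtain ⟨V, hV, hxV, -⟩ := exists_isAffineOpen_mem_and_subset (x := x) (U := ⊤) trivial
  haveI : IsNoetherianRing Γ(X, V) := IsLocallyNoetherian.component_noetherian ⟨V, hV⟩
  haveI := Groth.L20.ModStalk.finite_sections M hM hV
  rw [injective_iff_map_eq_zero]
  intro θ hθ
  obtain ⟨U, hxU, g, rfl⟩ := TopCat.Presheaf.exists_germ_eq (F := (RefHull.homSh M N).presheaf) (x := x) θ
  rw [RefHull.evalStalk_germ] at hθ
  obtain ⟨S, hS⟩ := Module.Finite.fg_top (R := Γ(X, V)) (M := Γ(M, V))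
  have hVU : x ∈ U ⊓ V := ⟨hxU, hxV⟩
  let W₀ : X.Opens := U ⊓ V
  have hloc : ∀ m : Γ(M, V), ∃ W : X.Opens, x ∈ W ∧ ∀ (y : X) (hy : y ∈ W₀), y ∈ W →
      g.1 ⟨y, hy.1⟩ (M.presheaf.germ V y hy.2 m) = 0 := by
    intro m
    have h0 : N.presheaf.germ W₀ x hVU (Groth.L15.Ref.secOf g (inf_le_left : W₀ ≤ U) (rs M inf_le_right m)) =
        N.presheaf.germ W₀ x hVU 0 := by
      rw [Groth.L15.Ref.germ_secOf, hθ, map_zero]; rfl
    obtain ⟨W, hxW, i, i', e⟩ := TopCat.Presheaf.germ_eq N.presheaf x hVU hVU _ _ h0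
    refine ⟨W, hxW, fun y hy hyW => ?_⟩
    rw [← germ_rs M (inf_le_right : W₀ ≤ V) hy m, ← Groth.L15.Ref.germ_secOf g (inf_le_left : W₀ ≤ U) _ y hy,
      ← germ_rs N i.le hyW]
    exact (congrArg _ e).trans (by rw [map_zero, map_zero])
  choose W hxW hW using hloc
  let W' : X.Opens := W₀ ⊓ S.inf W
  have hxW' : x ∈ W' := ⟨hVU, by
    have : ∀ T : Finset Γ(M, V), x ∈ T.inf W := fun T => by
      induction T using Finset.induction_on with
      | empty => simp
      | insert a s _ ih => rw [Finset.inf_insert]; exact ⟨hxW a, ih⟩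
    exact this S⟩
  have hg0 : rs (RefHull.homSh M N) (inf_le_left.trans inf_le_left : W' ≤ U) g = 0 := by
    refine Subtype.ext (funext fun ⟨y, hy⟩ => LinearMap.ext fun v => ?_)
    have hyV : y ∈ V := hy.1.2
    letI := Groth.L20.ModStalk.stalkModule M hyV
    haveI := Groth.L20.ModStalk.isLocalizedModule_germ M hV hyV
    obtain ⟨⟨m, s⟩, hms⟩ := IsLocalizedModule.surj (hV.primeIdealOf ⟨y, hyV⟩).asIdeal.primeCompl
      (Groth.L20.ModStalk.germₗ M hyV) v
    letI := X.presheaf.algebra_section_stalk (⟨y, hyV⟩ : V)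
    haveI := hV.isLocalization_stalk ⟨y, hyV⟩
    have hu : IsUnit (X.presheaf.germ V y hyV (s : Γ(X, V))) :=
      IsLocalization.map_units (X.presheaf.stalk y) s
    have hm : g.1 ⟨y, hy.1.1⟩ (M.presheaf.germ V y hyV m) = 0 := by
      clear hms
      have hmS : m ∈ Submodule.span Γ(X, V) (S : Set Γ(M, V)) := hS ▸ Submodule.mem_top
      induction hmS using Submodule.span_induction with
      | mem a ha => exact hW a y hy.1 ((Finset.inf_le (f := W) ha) hy.2)
      | zero => rw [map_zero, map_zero]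
      | add a b _ _ iha ihb => rw [map_add, map_add, iha, ihb, add_zero]
      | smul r a _ iha => rw [germ_smul, map_smul, iha, smul_zero]
    show g.1 ⟨y, hy.1.1⟩ v = 0
    refine hu.smul_eq_zero.1 ?_
    rw [← map_smul]
    exact (congrArg (g.1 ⟨y, hy.1.1⟩) hms).trans hm
  rw [← germ_rs (RefHull.homSh M N) (inf_le_left.trans inf_le_left : W' ≤ U) hxW' g, hg0, map_zero]

/-- The stalk of `Hom(M, N)` for coherent `M` and any `N`. -/
theorem evalStalk_bijective [IsLocallyNoetherian X] (hM : Coh.IsCoh M) (x : X) :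
    Function.Bijective (RefHull.evalStalk M N x) :=
  ⟨evalStalk_injective M N hM x, evalStalk_surjective M N hM x⟩

end Groth.L22.ExtSh
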