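import Mathlib.CategoryTheory.Abelian.Injective.Ext
import Mathlib.CategoryTheory.Abelian.RightDerived
import Mathlib.CategoryTheory.Linear.Yoneda
import Mathlib.Algebra.Homology.DerivedCategory.Ext.Linear
import Mathlib.Algebra.Homology.ShortComplex.ModuleCat
import Mathlib.CategoryTheory.Preadditive.Yoneda.Limits

/-!
`Ext` as the right derived functor of the linear `Hom`.
-/

set_option autoImplicit false
set_option backward.isDefEq.respectTransparency false
set_option linter.style.haveILetI false
universe u v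

open CategoryTheory CategoryTheory.Limits CategoryTheory.Abelian Opposite

noncomputable section

namespace Groth.L22.ExtSh

variable (R : Type u) [CommRing R] {C : Type v} [Category.{u} C] [Abelian C] [Linear R C]

/-- The linear `Hom(M, -)`. -/
abbrev linHom (M : C) : C ⥤ ModuleCat.{u} R := (linearCoyoneda R C).obj (op M)

instance additive_linHom (M : C) : (linHom R M).Additive where
  map_add {X Y f g} := ModuleCat.hom_ext (LinearMap.ext fun a => Preadditive.comp_add _ _ _ a f g)

instance preservesFiniteLimits_linHom (M : C) : PreservesFiniteLimits (linHom R M) :=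
  haveI : PreservesFiniteLimits (linHom R M ⋙ forget₂ (ModuleCat.{u} R) AddCommGrpCat.{u}) :=
    preservesFiniteLimits_of_natIso (show preadditiveCoyoneda.obj (op M) ≅ _ from
      NatIso.ofComponents (fun X => Iso.refl _) fun _ => rfl)
  ⟨fun J _ _ => preservesLimitsOfShape_of_reflects_of_preserves (linHom R M) (forget₂ _ AddCommGrpCat.{u})⟩

variable [HasExt.{u} C]

theorem smul_extMk {M Y : C} (I : InjectiveResolution Y) {n : ℕ} (r : R) (f : M ⟶ I.cocomplex.X n) (m : ℕ)
    (hm : n + 1 = m) (hf : f ≫ I.cocomplex.d n m = 0) :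
    I.extMk (r • f) m hm (by rw [Linear.smul_comp, hf, smul_zero]) = r • I.extMk f m hm hf := by
  have h := I.mk₀_comp_extMk f m hm hf (r • 𝟙 M)
  rw [Ext.mk₀_smul, Ext.smul_comp, Ext.mk₀_id_comp] at h
  rw [h]
  congr 1
  rw [Linear.smul_comp, Category.id_comp]

variable [HasInjectiveResolutions C]

/-- `R^n Hom(M, -) = Ext^n(M, -)`, linearly. -/
theorem nonempty_rightDerived_linHom (M Y : C) (n : ℕ) :
    Nonempty (((linHom R M).rightDerived n).obj Y ≃ₗ[R] Ext M Y n) := by
  cases n with
  | zero =>
    exact ⟨((linHom R M).rightDerivedZeroIsoSelf.app Y).toLinearEquiv ≪≫ₗ (Ext.linearEquiv₀ (R := R)).symm⟩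
  | succ p =>
    let I := injectiveResolution Y
    let K := ((linHom R M).mapHomologicalComplex _).obj I.cocomplex
    let S := K.sc' p (p + 1) (p + 1 + 1)
    let e : ((linHom R M).rightDerived (p + 1)).obj Y ≅ ModuleCat.of R
        (LinearMap.ker S.g.hom ⧸ LinearMap.range S.moduleCatToCycles) :=
      I.isoRightDerivedObj (linHom R M) (p + 1) ≪≫
        K.homologyIsoSc' p (p + 1) (p + 1 + 1) (by simp) (by simp) ≪≫ S.moduleCatHomologyIso
    have hcoc : ∀ f : LinearMap.ker S.g.hom,
        (show M ⟶ I.cocomplex.X (p + 1) from f.1) ≫ I.cocomplex.d (p + 1) (p + 1 + 1) = 0 := fun f => f.2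
    let φ : LinearMap.ker S.g.hom →ₗ[R] Ext M Y (p + 1) :=
      { toFun := fun f => I.extMk (show M ⟶ I.cocomplex.X (p + 1) from f.1) (p + 1 + 1) rfl (hcoc f)
        map_add' := fun f g => (I.add_extMk _ _ (p + 1 + 1) rfl (hcoc f) (hcoc g)).symm
        map_smul' := fun r f => smul_extMk R I r _ (p + 1 + 1) rfl (hcoc f) }
    have hsurj : Function.Surjective φ := fun α => by
      obtain ⟨f, hf, h⟩ := I.extMk_surjective α (p + 1 + 1) rfl
      exact ⟨⟨f, hf⟩, h⟩
    have hker : LinearMap.range S.moduleCatToCycles = LinearMap.ker φ := by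
      ext f
      rw [LinearMap.mem_ker]
      refine Iff.trans ?_ (I.extMk_eq_zero_iff _ (p + 1 + 1) rfl (hcoc f) p rfl).symm
      constructor
      · intro h
        obtain ⟨g, hg⟩ := LinearMap.mem_range.1 h
        exact ⟨g, congrArg Subtype.val hg⟩
      · intro h
        obtain ⟨g, hg⟩ := h
        exact LinearMap.mem_range.2 ⟨g, Subtype.ext hg⟩
    exact ⟨e.toLinearEquiv ≪≫ₗ Submodule.quotEquivOfEq _ _ hker ≪≫ₗ φ.quotKerEquivOfSurjective hsurj⟩

end Groth.L22.ExtSh
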