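import Groth.Prelude.Def_ModSite2
import Groth.Prelude.Def_RefHull
import Groth.Agent.L00.StalkFunctor
import Groth.Agent.L20.ModStalk
import Mathlib.Topology.Sheaves.Points

/-!
Stalks of modules at the point of the site of opens and at a point of the space.
-/

set_option autoImplicit false
set_option backward.isDefEq.respectTransparency false
set_option linter.style.haveILetI false
universe u

open CategoryTheory CategoryTheory.Limits AlgebraicGeometry TopologicalSpace Opposite

noncomputable section

namespace Groth.L22.ExtSh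

variable {X : Scheme.{u}} (x : X)

/-- The point of the site of opens. -/
abbrev pt : GrothendieckTopology.Point.{u} (Opens.grothendieckTopology X) := Opens.pointGrothendieckTopology x

variable {A : Type (u + 1)} [Category.{u} A] [HasColimitsOfSize.{u, u} A] (P : TopCat.Presheaf A X.toTopCat)

/-- The cocone condition. -/
theorem germ_comp {U V : X.Opens} (f : U ⟶ V) (h : (pt x).fiber.obj U) :
    P.map f.op ≫ P.germ U x h.down.down = P.germ V x ((pt x).fiber.map f h).down.down :=
  TopCat.Presheaf.germ_res P f x h.down.down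

/-- From the fibre to the stalk. -/
def fibToStalk : (pt x).presheafFiber.obj P ⟶ P.stalk x :=
  (pt x).presheafFiberDesc (fun U h => P.germ U x h.down.down) fun _ _ f h => germ_comp x P f h

theorem germ_fibToStalk (U : X.Opens) (h : (pt x).fiber.obj U) :
    (pt x).toPresheafFiber U h P ≫ fibToStalk x P = P.germ U x h.down.down :=
  (pt x).toPresheafFiber_presheafFiberDesc (fun U h => P.germ U x h.down.down)
    (fun _ _ f h => germ_comp x P f h) U h

/-- The fibre at the point of the site is the stalk. -/
def fibIso : (pt x).presheafFiber.obj P ≅ P.stalk x where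
  hom := fibToStalk x P
  inv := colimit.desc _ (Cocone.mk _
    { app := fun U => (pt x).toPresheafFiber U.unop.1 ⟨⟨U.unop.2⟩⟩ P
      naturality := fun U V i =>
        ((pt x).toPresheafFiber_w ((OpenNhds.inclusion x).map i.unop) ⟨⟨V.unop.2⟩⟩ P).trans
          (Category.comp_id _).symm })
  hom_inv_id := by
    refine (pt x).presheafFiber_hom_ext fun U h => ?_
    rw [← Category.assoc, germ_fibToStalk, Category.comp_id]
    exact colimit.ι_desc _ (op (⟨U, h.down.down⟩ : OpenNhds x))
  inv_hom_id := by
    refine colimit.hom_ext fun U => ?_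
    refine (colimit.ι_desc_assoc _ _ _).trans ?_
    refine (germ_fibToStalk x P U.unop.1 ⟨⟨U.unop.2⟩⟩).trans ?_
    exact (Category.comp_id _).symm

theorem germ_fibIso (U : X.Opens) (h : (pt x).fiber.obj U) :
    (pt x).toPresheafFiber U h P ≫ (fibIso x P).hom = P.germ U x h.down.down :=
  germ_fibToStalk x P U h

omit A in
/-- The local ring at the point of the site. -/
def ringIso : ModSite.stalkRing (pt x) X.sheaf ≅ X.presheaf.stalk x := fibIso x X.presheaf

/-- The identification of local rings, as a map of rings. -/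
abbrev rho : ModSite.stalkRing (pt x) X.sheaf →+* X.presheaf.stalk x := (ringIso x).hom.hom

omit A in
theorem bijective_rho : Function.Bijective (rho x) :=
  (ringIso x).commRingCatIsoToRingEquiv.bijective

omit A in
theorem rho_germ (U : X.Opens) (h : (pt x).fiber.obj U) (r : Γ(X, U)) :
    rho x (ModSite.germRing (pt x) (O := X.sheaf) U h r) = X.presheaf.germ U x h.down.down r :=
  congr($(germ_fibIso x X.presheaf U h) r)

/-- The stalk functor, over the local ring at the point of the site. -/
abbrev stkS : X.Modules ⥤ ModuleCat.{u} (ModSite.stalkRing (pt x) X.sheaf) :=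
  Groth.L00.Stk.F X x ⋙ ModuleCat.restrictScalars (rho x)

omit A in
theorem nonempty_stalkMod_iso (M : X.Modules) :
    Nonempty (ModSite.stalkMod (O := X.sheaf) (pt x) M ≃ₗ[ModSite.stalkRing (pt x) X.sheaf] (stkS x).obj M) := by
  let σ := (fibIso x M.presheaf).addCommGroupIsoToAddEquiv
  have hσ : ∀ (U : X.Opens) (h : (pt x).fiber.obj U) (s : Γ(M, U)),
      σ (ModSite.germ (pt x) (O := X.sheaf) M U h s) = M.presheaf.germ U x h.down.down s := fun U h s =>
    congr($(germ_fibIso x M.presheaf U h) s)
  refine ⟨{ σ with map_smul' := fun r m => ?_ }⟩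
  obtain ⟨U₁, u₁, r₁, rfl⟩ := (pt x).toPresheafFiber_jointly_surjective (P := X.sheaf.obj) r
  obtain ⟨U₂, u₂, s₂, rfl⟩ := (pt x).toPresheafFiber_jointly_surjective (P := (ModSite.toAb (O := X.sheaf) M).obj) m
  let W : X.Opens := U₁ ⊓ U₂
  let w : (pt x).fiber.obj W := ⟨⟨⟨u₁.down.down, u₂.down.down⟩⟩⟩
  have h1 := (pt x).toPresheafFiber_w_apply (homOfLE (inf_le_left : W ≤ U₁)) w X.sheaf.obj r₁
  have h2 := (pt x).toPresheafFiber_w_apply (homOfLE (inf_le_right : W ≤ U₂)) w
    (ModSite.toAb (O := X.sheaf) M).obj s₂
  rw [show (pt x).fiber.map (homOfLE (inf_le_left : W ≤ U₁)) w = u₁ from Subsingleton.elim _ _] at h1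
  rw [show (pt x).fiber.map (homOfLE (inf_le_right : W ≤ U₂)) w = u₂ from Subsingleton.elim _ _] at h2
  rw [← h1, ← h2]
  refine (congrArg σ (ModSite.germ_smul (pt x) (O := X.sheaf) M W w _ _).symm).trans ((hσ W w _).trans ?_)
  refine (Groth.L20.ModStalk.germ_smul M _ _ _).trans ?_
  show _ = rho x _ • σ _
  exact congrArg₂ (· • ·) (rho_germ x W w _).symm (hσ W w _).symm

end Groth.L22.ExtSh
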