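import Groth.Agent.L22.ExtSh.Vanish
import Groth.Agent.L18.TildeFunctor
import Groth.Agent.L16.CohKernel
import Groth.Agent.L17.Duality
import Groth.Agent.L03.QcOpenExtend
import Mathlib.RingTheory.LocalProperties.Injective

/-!
Ext sheaves on an affine scheme.
-/

set_option autoImplicit false
set_option backward.isDefEq.respectTransparency false
set_option linter.style.haveILetI false
universe u

open CategoryTheory CategoryTheory.Limits CategoryTheory.Abelian AlgebraicGeometry TopologicalSpace Opposite

noncomputable section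

namespace Groth.L22.ExtSh

open Groth.L16.HomSh

section

variable {R : CommRingCat.{u}} (M : ModuleCat.{u} R)

/-- Global sections of a tilde. -/
def topEquiv (N : ModuleCat.{u} R) : N ≃ₗ[R] Γ(tilde N, (⊤ : (Spec R).Opens)) := (tilde.isoTop N).toLinearEquiv

theorem topEquiv_map {N N' : ModuleCat.{u} R} (g : N ⟶ N') (n : N) :
    (tilde.map g).app ⊤ (topEquiv N n) = topEquiv N' (g n) :=
  congr($(tilde.toOpen_map_app g ⊤) n)

/-- Evaluation at the top, linearly over the ring. -/
def evMap (N : ModuleCat.{u} R) (s : Γ(homMod (tilde M) (tilde N), (⊤ : (Spec R).Opens))) :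
    Γ(tilde M, (⊤ : (Spec R).Opens)) →ₗ[R] Γ(tilde N, (⊤ : (Spec R).Opens)) where
  toFun x := ev (secEquiv ⊤ s) le_rfl x
  map_add' x y := map_add (ev (secEquiv ⊤ s) le_rfl) x y
  map_smul' r x := by
    show ev (secEquiv ⊤ s) le_rfl (r • x) = r • ev (secEquiv ⊤ s) le_rfl x
    rw [Scheme.Modules.smul_Spec_def, Scheme.Modules.smul_Spec_def, ev_smul]

theorem evMap_smul (N : ModuleCat.{u} R) (r : R) (s : Γ(homMod (tilde M) (tilde N), (⊤ : (Spec R).Opens)))
    (x : Γ(tilde M, (⊤ : (Spec R).Opens))) : evMap M N (r • s) x = r • evMap M N s x := by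
  show ev (secEquiv ⊤ (r • s)) le_rfl x = r • ev (secEquiv ⊤ s) le_rfl x
  rw [Scheme.Modules.smul_Spec_def, Scheme.Modules.smul_Spec_def, map_smul]
  refine (ev_smulSec _ _ le_rfl _).trans ?_
  rw [Groth.L18.Frame.ro_self]

/-- Evaluation, read on modules. -/
def evTop (N : ModuleCat.{u} R) (s : Γ(homMod (tilde M) (tilde N), (⊤ : (Spec R).Opens))) : M →ₗ[R] N :=
  (topEquiv N).symm.toLinearMap ∘ₗ evMap M N s ∘ₗ (topEquiv M).toLinearMap

theorem evTop_apply (N : ModuleCat.{u} R) (s : Γ(homMod (tilde M) (tilde N), (⊤ : (Spec R).Opens))) (m : M) :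
    topEquiv N (evTop M N s m) = evMap M N s (topEquiv M m) :=
  (topEquiv N).apply_symm_apply _

/-- Global sections of the sheaf of homomorphisms of tildes. -/
def evTopLin (N : ModuleCat.{u} R) :
    Γ(homMod (tilde M) (tilde N), (⊤ : (Spec R).Opens)) →ₗ[R] (M ⟶ N) where
  toFun s := ModuleCat.ofHom (evTop M N s)
  map_add' s t := by
    refine ModuleCat.hom_ext (LinearMap.ext fun m => (topEquiv N).injective ?_)
    show topEquiv N (evTop M N (s + t) m) = topEquiv N (evTop M N s m + evTop M N t m)
    rw [map_add, evTop_apply, evTop_apply, evTop_apply]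
    rfl
  map_smul' r s := by
    refine ModuleCat.hom_ext (LinearMap.ext fun m => (topEquiv N).injective ?_)
    show topEquiv N (evTop M N (r • s) m) = topEquiv N (r • evTop M N s m)
    rw [map_smul, evTop_apply, evTop_apply, evMap_smul]

theorem bijective_evTopLin (N : ModuleCat.{u} R) : Function.Bijective (evTopLin M N) := by
  haveI : Coh.IsQCoh (tilde M) := (inferInstance : (tilde M).IsQuasicoherent)
  constructor
  · refine (injective_iff_map_eq_zero _).2 fun s hs => ?_
    refine (secEquiv (M := tilde M) (N := tilde N) ⊤).injective ?_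
    refine (ev_top_injective (isAffineOpen_top (Spec R)) fun x => ?_).trans (map_zero _).symm
    obtain ⟨m, rfl⟩ := (topEquiv M).surjective x
    refine (evTop_apply M N s m).symm.trans ?_
    rw [show evTop M N s = 0 from congrArg ModuleCat.Hom.hom hs]
    exact map_zero (topEquiv N)
  · intro φ
    refine ⟨globalEquiv (tilde M) (tilde N) (tilde.map φ), ModuleCat.hom_ext (LinearMap.ext fun m => ?_)⟩
    refine (topEquiv N).injective ((evTop_apply M N (globalEquiv (tilde M) (tilde N) (tilde.map φ)) m).trans ?_)
    exact topEquiv_map φ m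

/-- `Γ ∘ Hom(M~, -~) = Hom(M, -)`. -/
def gammaHomIso : tilde.functor R ⋙ homModF (tilde M) ⋙ moduleSpecΓFunctor ≅ linHom R M :=
  NatIso.ofComponents
    (fun N => (show (moduleSpecΓFunctor.obj ((homModF (tilde M)).obj (tilde N)) : ModuleCat.{u} R) ≃ₗ[R]
      ((linHom R M).obj N : ModuleCat.{u} R) from
        LinearEquiv.ofBijective (evTopLin M N) (bijective_evTopLin M N)).toModuleIso)
    (fun {N N'} g => by
      refine ModuleCat.hom_ext (LinearMap.ext fun s => ?_)
      refine ModuleCat.hom_ext (LinearMap.ext fun m => ?_)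
      refine (topEquiv N').injective ?_
      show topEquiv N' (evTop M N' ((post (tilde M) (tilde.map g)).app ⊤ s) m) =
        topEquiv N' (g (evTop M N s m))
      rw [evTop_apply, ← topEquiv_map, evTop_apply]
      rfl)

variable [IsNoetherianRing R] [Module.Finite R M]

theorem isCoh_tilde : Coh.IsCoh (tilde M) := Groth.L03.QcOpenExtend.isCoh_tilde M

/-- `Hom(M~, -~) = Hom(M, -)~`. -/
def homTildeIso : tilde.functor R ⋙ homModF (tilde M) ≅ linHom R M ⋙ tilde.functor R :=
  (NatIso.ofComponents (fun N => by
      haveI : Coh.IsQCoh (tilde N) := (inferInstance : (tilde N).IsQuasicoherent)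
      haveI : (homMod (tilde M) (tilde N)).IsQuasicoherent :=
        Groth.L16.HomSh.isQCoh_homMod (isCoh_tilde M) (tilde N)
      exact Groth.L18.TildeF.counitIso (homMod (tilde M) (tilde N)))
    (fun {N N'} g => tilde.adjunction.counit.naturality ((homModF (tilde M)).map (tilde.map g))) :
    (tilde.functor R ⋙ homModF (tilde M) ⋙ moduleSpecΓFunctor) ⋙ tilde.functor R ≅
      tilde.functor R ⋙ homModF (tilde M)).symm ≪≫
    Functor.isoWhiskerRight (gammaHomIso M) (tilde.functor R)

theorem isZero_extSh_tilde_injective [ModSite.HasSheafHom (O := (Spec R).sheaf) (tilde M)]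
    [HasInjectiveResolutions (ModSite.Mod (Spec R).sheaf)] (J : ModuleCat.{u} R) [Injective J] (q : ℕ) :
    IsZero ((ModSite.extSh (O := (Spec R).sheaf) (tilde M) (q + 1)).obj (tilde J)) := by
  refine (isZero_extSh_iff (isCoh_tilde M) (tilde J) (q + 1)).2 fun p => ?_
  letI : Algebra R ((Spec R).presheaf.stalk p) :=
    (inferInstance : Algebra R ((AlgebraicGeometry.structurePresheafInCommRingCat R).stalk p))
  haveI : IsScalarTower R ((Spec R).presheaf.stalk p) ((tilde J).presheaf.stalk p) :=
    inferInstanceAs (IsScalarTower R ((AlgebraicGeometry.structurePresheafInCommRingCat R).stalk p)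
      ↑(TopCat.Presheaf.stalk (AlgebraicGeometry.moduleStructurePresheaf R J).presheaf p))
  haveI : IsLocalization.AtPrime ((Spec R).presheaf.stalk p) p.asIdeal :=
    inferInstanceAs (IsLocalization.AtPrime ((AlgebraicGeometry.structurePresheafInCommRingCat R).stalk p) p.asIdeal)
  haveI : Module.Injective R J := Module.injective_module_of_injective_object R J (inj := ‹Injective J›)
  haveI : Module.Injective ((Spec R).presheaf.stalk p) ((tilde J).presheaf.stalk p) :=
    Module.injective_of_isLocalizedModule p.asIdeal.primeCompl (tilde.toStalk J p).hom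
  haveI : Injective (ModuleCat.of ((Spec R).presheaf.stalk p) ((tilde J).presheaf.stalk p)) :=
    Module.injective_object_of_injective_module _ _
  exact subsingleton_of_forall_eq 0 fun z => Ext.eq_zero_of_injective z

/-- `Ext^i(M~, N~) = Ext^i(M, N)~`. -/
theorem nonempty_extSh_tilde [ModSite.HasSheafHom (O := (Spec R).sheaf) (tilde M)]
    [hI : HasInjectiveResolutions (ModSite.Mod (Spec R).sheaf)] (N : ModuleCat.{u} R) (i : ℕ) :
    Nonempty ((ModSite.extSh (O := (Spec R).sheaf) (tilde M) i).obj (tilde N) ≅
      tilde (ModuleCat.of R (Ext M N i))) := by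
  letI := HasDerivedCategory.standard (Spec R).Modules
  haveI : HasInjectiveResolutions (Spec R).Modules := hI
  haveI := Groth.L18.TildeF.tilde_preservesFiniteLimits (R := R)
  haveI : EnoughInjectives (Spec R).Modules :=
    haveI := Groth.L00.Tensor.grothendieckAbelian_modules (Spec R)
    inferInstance
  haveI : (homModF (tilde M)).Additive := ⟨fun {_ _} {g g'} => post_add g g'⟩
  haveI : (ModSite.sheafHom (O := (Spec R).sheaf) (tilde M)).Additive :=
    (ModSite.sheafHomAdj _).right_adjoint_additive
  have hac : ∀ Q : ModuleCat.{u} R, Injective Q → ∀ q : ℕ, 0 < q →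
      IsZero (((homModF (tilde M)).rightDerived q).obj ((tilde.functor R).obj Q)) := fun Q _ q hq => by
    obtain ⟨q, rfl⟩ := Nat.exists_eq_add_of_lt hq
    rw [zero_add]
    exact (isZero_extSh_tilde_injective M Q q).of_iso
      ((Groth.L15.ModTensor.rdIso (homModSiteIso (tilde M)).symm (q + 1)).app _)
  have hX : ∀ q : ℕ, 0 < q → IsZero (((tilde.functor R).rightDerived q).obj N) := fun q hq => by
    let I := injectiveResolution N
    refine IsZero.of_iso ?_ (I.isoRightDerivedObj (tilde.functor R) q ≪≫
      ((I.cocomplex.sc q).mapHomologyIso (tilde.functor R)))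
    refine (tilde.functor R).map_isZero ?_
    show IsZero (I.cocomplex.homology q)
    rw [← HomologicalComplex.exactAt_iff_isZero_homology]
    obtain ⟨q, rfl⟩ := Nat.exists_eq_add_of_lt hq
    rw [zero_add]
    exact I.cocomplex_exactAt_succ q
  haveI := (tensorHomAdj (tilde M)).isRightAdjoint
  haveI : PreservesFiniteLimits (homModF (tilde M)) := inferInstance
  obtain ⟨e₂⟩ := Groth.L17.GrothSS.nonempty_rightDerived_comp_of_acyclic (tilde.functor R)
    (homModF (tilde M)) hac N hX i
  obtain ⟨e₃⟩ := nonempty_rightDerived_linHom R M N i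
  exact ⟨(Groth.L15.ModTensor.rdIso (homModSiteIso (tilde M)) i).app (tilde N) ≪≫ e₂.symm ≪≫
    (Groth.L15.ModTensor.rdIso (homTildeIso M) i).app N ≪≫
    (Groth.L15.ModTensor.postcompIso (linHom R M) (tilde.functor R) i).app N ≪≫
    (tilde.functor R).mapIso e₃.toModuleIso⟩

end

end Groth.L22.ExtSh
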