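import Mathlib.Algebra.Homology.ShortComplex.HomologicalComplex
import Mathlib.Algebra.Homology.ShortComplex.Exact
import Mathlib.CategoryTheory.Preadditive.Injective.Basic

/-!
A complex of injectives which is exact below degree `c`: its `c`-th homology classifies cocycles up to
coboundaries.
-/

set_option autoImplicit false
set_option backward.isDefEq.respectTransparency false
universe v u

open CategoryTheory CategoryTheory.Limits

namespace Groth.L22.ExtSh

variable {C : Type u} [Category.{v} C] [Abelian C] (J : CochainComplex C ℕ)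

/-- An idempotent up to coboundaries, killing coboundaries. -/
theorem exists_split_projector (hJ : ∀ q, Injective (J.X q)) (c : ℕ) (hex : ∀ q, q < c → J.ExactAt q) :
    ∀ q, q ≤ c → ∃ (e : J.X q ⟶ J.X q) (i : ℕ) (h : J.X q ⟶ J.X i),
      (∀ l, J.d l q ≫ e = 0) ∧ e ≫ J.d q (q + 1) = J.d q (q + 1) ∧ 𝟙 (J.X q) - e = h ≫ J.d i q := by
  intro q
  induction q with
  | zero =>
    intro _
    refine ⟨𝟙 _, 0, 0, fun l => ?_, Category.id_comp _, ?_⟩
    · rw [Category.comp_id, J.shape l 0 (by simp)]
    · rw [sub_self, zero_comp]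
  | succ q ih =>
    intro hq
    obtain ⟨e, i, h, h1, h2, h3⟩ := ih (by omega)
    haveI := hJ q
    have hex' : (J.sc' ((ComplexShape.up ℕ).prev q) q (q + 1)).Exact :=
      (J.exactAt_iff' _ q (q + 1) rfl (by simp)).1 (hex q (by omega))
    let g : J.X (q + 1) ⟶ J.X q := hex'.descToInjective e (h1 _)
    have hg : J.d q (q + 1) ≫ g = e := hex'.comp_descToInjective e (h1 _)
    refine ⟨𝟙 _ - g ≫ J.d q (q + 1), q, g, fun l => ?_, ?_, sub_sub_cancel _ _⟩
    · by_cases hl : l = q
      · subst hl
        rw [Preadditive.comp_sub, Category.comp_id, ← Category.assoc, hg, h2, sub_self]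
      · rw [J.shape l (q + 1) (by simp; omega), zero_comp]
    · rw [Preadditive.sub_comp, Category.id_comp, Category.assoc, J.d_comp_d, comp_zero, sub_zero]

/-- The homology in the lowest degree classifies cocycles modulo coboundaries. -/
theorem exists_section (hJ : ∀ q, Injective (J.X q)) (c : ℕ) (hex : ∀ q, q < c → J.ExactAt q) :
    ∃ s : J.homology c ⟶ J.X c, s ≫ J.d c (c + 1) = 0 ∧
      (∀ {F : C} (g : F ⟶ J.X c), g ≫ J.d c (c + 1) = 0 →
        ∃ (φ : F ⟶ J.homology c) (i : ℕ) (h : F ⟶ J.X i), g - φ ≫ s = h ≫ J.d i c) ∧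
      (∀ {F : C} (φ : F ⟶ J.homology c) (i : ℕ) (h : F ⟶ J.X i), φ ≫ s = h ≫ J.d i c → φ = 0) := by
  obtain ⟨e, i₀, h₀, h1, h2, h3⟩ := exists_split_projector J hJ c hex c le_rfl
  let p := (ComplexShape.up ℕ).prev c
  let hl := J.homologyIsCokernel p c rfl
  have h0 : J.toCycles p c ≫ J.iCycles c ≫ e = 0 := by
    rw [J.toCycles_i_assoc, h1]
  let s : J.homology c ⟶ J.X c := hl.desc (CokernelCofork.ofπ (J.iCycles c ≫ e) h0)
  have hs : J.homologyπ c ≫ s = J.iCycles c ≫ e := Cofork.IsColimit.π_desc hl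
  haveI : Epi (J.homologyπ c) := inferInstance
  have hsd : s ≫ J.d c (c + 1) = 0 := by
    rw [← cancel_epi (J.homologyπ c), ← Category.assoc, hs, Category.assoc, h2, J.iCycles_d, comp_zero]
  refine ⟨s, hsd, fun {F} g hg => ?_, fun {F} φ i h hφ => ?_⟩
  · refine ⟨J.liftCycles g (c + 1) (by simp) hg ≫ J.homologyπ c, i₀, g ≫ h₀, ?_⟩
    rw [Category.assoc, hs, J.liftCycles_i_assoc, Category.assoc, ← h3, Preadditive.comp_sub, Category.comp_id]
  · let t : J.homology c ⟶ J.cycles c := J.liftCycles s (c + 1) (by simp) hsd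
    have ht : t ≫ J.iCycles c = s := J.liftCycles_i _ _ _ _
    have hsec : t ≫ J.homologyπ c = 𝟙 _ := by
      rw [← cancel_epi (J.homologyπ c), Category.comp_id]
      have key : J.homologyπ c ≫ t = 𝟙 _ - (J.iCycles c ≫ h₀) ≫ J.toCycles i₀ c := by
        rw [← cancel_mono (J.iCycles c), Category.assoc, ht, hs, Preadditive.sub_comp, Category.id_comp,
          Category.assoc, Category.assoc, J.toCycles_i, ← h3, Preadditive.comp_sub, Category.comp_id,
          sub_sub_cancel]
      rw [← Category.assoc, key, Preadditive.sub_comp, Category.id_comp, Category.assoc,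
        J.toCycles_comp_homologyπ, comp_zero, sub_zero]
    have h4 : φ ≫ t = h ≫ J.toCycles i c := by
      rw [← cancel_mono (J.iCycles c), Category.assoc, ht, Category.assoc, J.toCycles_i, hφ]
    calc φ = (φ ≫ t) ≫ J.homologyπ c := by rw [Category.assoc, hsec, Category.comp_id]
      _ = 0 := by rw [h4, Category.assoc, J.toCycles_comp_homologyπ, comp_zero]

end Groth.L22.ExtSh
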