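import Groth.Agent.L22.ExtSh.HomStalk
import Groth.Agent.L18.IdealModule
import Groth.Agent.L19.Approx.IdealExt
import Groth.Agent.L00.StalkFunctor
import Groth.Agent.L15.ExtZero.Exact
import Groth.Agent.L21.RR.Twist
import Mathlib.Algebra.Category.ModuleCat.Injective
import Mathlib.Algebra.Module.Injective

/-!
Stalks of injective modules on a Noetherian scheme are injective.
-/

set_option autoImplicit false
set_option backward.isDefEq.respectTransparency false
set_option linter.style.haveILetI false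
universe u

open CategoryTheory CategoryTheory.Limits AlgebraicGeometry TopologicalSpace Opposite

noncomputable section

namespace Groth.L22.ExtSh

open Groth.L18.Frame (rs ro)
open Groth.L20.ModStalk (germ_rs germ_smul)
open Groth.L16.HomSh (ev Sec)

variable {X : Scheme.{u}}

theorem germ_mem_smul_one (x : X) {U : X.Opens} (hx : x ∈ U) (a : Γ(X, U)) :
    (Coh.structureModule X).presheaf.germ U x hx (show Γ(Coh.structureModule X, U) from a) =
      X.presheaf.germ U x hx a • Groth.L21.RR.one X x := by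
  rw [Groth.L21.RR.one, ← germ_rs (Coh.structureModule X) (le_top : U ≤ ⊤) hx, ← germ_smul]
  refine congrArg _ ?_
  show a = a * (show Γ(X, U) from (X.presheaf.map (homOfLE (le_top : U ≤ ⊤)).op) (1 : Γ(X, ⊤)))
  rw [map_one, mul_one]

/-- A compatible family extends along a monomorphism into an injective module. -/
theorem exists_ext_section {K I : X.Modules} [Injective I] (ι : K ⟶ Coh.structureModule X) [Mono ι] {D : X.Opens}
    (φ : Sec K I D) :
    ∃ t : Γ(I, D), ∀ m : Γ(K, D), ev φ le_rfl m = (show Γ(X, D) from ι.app D m) • t := by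
  let R := ModSite.restr X.sheaf D
  haveI : Injective (R.obj I) := Groth.L15.ExtZero.injective_restr (O := X.sheaf) (U := D) I
  haveI : R.IsRightAdjoint := (ModSite.extZeroAdj X.sheaf D).isRightAdjoint
  haveI : Mono (R.map ι) := inferInstance
  let a : R.obj K ⟶ R.obj I :=
    ⟨PresheafOfModules.homMk (M₁ := (R.obj K).val) (M₂ := (R.obj I).val)
      { app := fun T => AddCommGrpCat.ofHom (ev φ T.unop.hom.le)
        naturality := fun T T' i => by
          ext x
          exact (Groth.L16.HomSh.ev_rs φ T.unop.hom.le i.unop.left.le x).symm }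
      fun T r x => Groth.L16.HomSh.ev_smul φ T.unop.hom.le r x⟩
  let T₀ : Over D := Over.mk (𝟙 D)
  let one' : (R.obj (Coh.structureModule X)).val.obj (op T₀) := (show Γ(X, D) from 1)
  let b := Injective.factorThru a (R.map ι)
  refine ⟨b.val.app (op T₀) one', fun m => ?_⟩
  have h := congrArg (fun f : R.obj K ⟶ R.obj I => f.val.app (op T₀) m) (Injective.comp_factorThru a (R.map ι))
  refine Eq.trans ?_ (((b.val.app (op T₀)).hom.map_smul (show Γ(X, D) from ι.app D m) one'))
  refine h.symm.trans (congrArg (b.val.app (op T₀)).hom ?_)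
  exact (mul_one (show Γ(X, D) from ι.app D m)).symm

theorem injective_stalk [IsLocallyNoetherian X] (I : X.Modules) [Injective I] (x : X) :
    Module.Injective (X.presheaf.stalk x) (I.presheaf.stalk x) := by
  refine Module.Baer.injective fun J g => ?_
  obtain ⟨V, hV, hxV, -⟩ := exists_isAffineOpen_mem_and_subset (x := x) (U := ⊤) trivial
  letI := X.presheaf.algebra_section_stalk (⟨x, hxV⟩ : V)
  haveI := hV.isLocalization_stalk ⟨x, hxV⟩
  let J₀ : Ideal Γ(X, V) := J.comap (algebraMap Γ(X, V) (X.presheaf.stalk x))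
  let IS := Groth.L19.Approx.kerSpan ⟨V, hV⟩ J₀
  let K := ClSub.idealMod IS
  let ι := ClSub.idealModι IS
  haveI : Mono ι := inferInstanceAs (Mono (kernel.ι (ClSub.toSubscheme IS)))
  have hK : Coh.IsCoh K := Groth.L21.RR.isCoh_idealMod IS
  haveI : Coh.IsQCoh K := hK.1
  have hmem : ∀ a : Γ(X, V), a ∈ J₀ ↔ ∃ m : Γ(K, V), (show Γ(X, V) from ι.app V m) = a := fun a => by
    rw [← Groth.L18.IdealModule.mem_ideal_iff IS hV a, Groth.L19.Approx.kerSpan_ideal_self]
  let sE := LinearEquiv.ofBijective (LinearMap.toSpanSingleton _ _ (Groth.L21.RR.one X x))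
    (Groth.L21.RR.bijective_smul_one x)
  let ιx : K.presheaf.stalk x →ₗ[X.presheaf.stalk x] X.presheaf.stalk x :=
    sE.symm.toLinearMap.comp (RefHull.stalkMapₗ ι x)
  have hιgerm : ∀ (U : X.Opens) (hx : x ∈ U) (m : Γ(K, U)),
      ιx (K.presheaf.germ U x hx m) = X.presheaf.germ U x hx (show Γ(X, U) from ι.app U m) := fun U hx m => by
    refine (LinearEquiv.symm_apply_eq sE).2 ?_
    rw [RefHull.stalkMapₗ_germ]
    exact germ_mem_smul_one x hx _
  have hmem' : ∀ v, ιx v ∈ J := fun v => by
    letI := Groth.L20.ModStalk.stalkModule K hxV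
    haveI := Groth.L20.ModStalk.isLocalizedModule_germ K hV hxV
    obtain ⟨⟨m, t⟩, hmt⟩ := IsLocalizedModule.surj (hV.primeIdealOf ⟨x, hxV⟩).asIdeal.primeCompl
      (Groth.L20.ModStalk.germₗ K hxV) v
    have ht : IsUnit (algebraMap Γ(X, V) (X.presheaf.stalk x) t) := IsLocalization.map_units _ t
    have hmt' : algebraMap Γ(X, V) (X.presheaf.stalk x) t • v = K.presheaf.germ V x hxV m := hmt
    rw [← Ideal.unit_mul_mem_iff_mem J ht, ← smul_eq_mul, ← map_smul, hmt', hιgerm]
    exact (hmem _).2 ⟨m, rfl⟩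
  have hsurj : ∀ r ∈ J, ∃ v, ιx v = r := fun r hr => by
    obtain ⟨⟨a, t⟩, hat⟩ := IsLocalization.surj (hV.primeIdealOf ⟨x, hxV⟩).asIdeal.primeCompl r
    obtain ⟨m, hm⟩ := (hmem a).1 (show algebraMap _ _ a ∈ J by
      rw [← hat]; exact J.mul_mem_right _ hr)
    have ht : IsUnit (algebraMap Γ(X, V) (X.presheaf.stalk x) t) := IsLocalization.map_units _ t
    obtain ⟨c, hc⟩ := ht.exists_left_inv
    refine ⟨c • K.presheaf.germ V x hxV m, ?_⟩
    rw [map_smul, hιgerm, hm, smul_eq_mul]
    refine (congrArg (c * ·) hat.symm).trans ?_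
    rw [mul_comm r, ← mul_assoc, hc, one_mul]
  let f : K.presheaf.stalk x →ₗ[X.presheaf.stalk x] I.presheaf.stalk x := g.comp (ιx.codRestrict J hmem')
  obtain ⟨D, hD, hxD, ψ, hψ⟩ := exists_linear_near K I hK x f
  obtain ⟨φ, hφ⟩ := Groth.L16.HomSh.exists_sec_of_linear (M := K) (N := I) hD ψ
  obtain ⟨t, ht⟩ := exists_ext_section ι φ
  refine ⟨LinearMap.toSpanSingleton _ _ (I.presheaf.germ D x hxD t), fun r hr => ?_⟩
  obtain ⟨v, rfl⟩ := hsurj r hr
  have key : ∀ w, f w = ιx w • I.presheaf.germ D x hxD t := fun w => by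
    letI := Groth.L20.ModStalk.stalkModule K hxD
    haveI := Groth.L20.ModStalk.isLocalizedModule_germ K hD hxD
    obtain ⟨⟨m, s⟩, hms⟩ := IsLocalizedModule.surj (hD.primeIdealOf ⟨x, hxD⟩).asIdeal.primeCompl
      (Groth.L20.ModStalk.germₗ K hxD) w
    letI := X.presheaf.algebra_section_stalk (⟨x, hxD⟩ : D)
    haveI := hD.isLocalization_stalk ⟨x, hxD⟩
    have hs : IsUnit (X.presheaf.germ D x hxD (s : Γ(X, D))) := IsLocalization.map_units (X.presheaf.stalk x) s
    have hms' : X.presheaf.germ D x hxD (s : Γ(X, D)) • w = K.presheaf.germ D x hxD m := hms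
    refine hs.smul_left_cancel.1 ?_
    rw [← map_smul f, smul_smul, ← smul_eq_mul, ← map_smul ιx, hms', ← hψ, ← hφ, ht, germ_smul, hιgerm]
  exact (key v).symm

/-- Categorical form. -/
theorem injective_stk [IsLocallyNoetherian X] (I : X.Modules) [Injective I] (x : X) :
    Injective ((Groth.L00.Stk.F X x).obj I) := by
  haveI := injective_stalk I x
  exact Module.injective_object_of_injective_module (R := X.presheaf.stalk x) (M := I.presheaf.stalk x)

end Groth.L22.ExtSh
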