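import Groth.Agent.L22.ExtSh.SiteStalk
import Groth.Agent.L22.ExtSh.LinDerived
import Groth.Agent.L22.ExtSh.StalkInjective
import Groth.Agent.L22.PDual.HomPre
import Groth.Agent.L17.AcyclicThen
import Groth.Agent.L15.ModTensor.RestrDerived
import Groth.Agent.L17.ChangeRings

/-!
The stalks of the Ext sheaves of a coherent module are the Ext modules of the stalks.
-/

set_option autoImplicit false
set_option backward.isDefEq.respectTransparency false
set_option linter.style.haveILetI false
universe u

open CategoryTheory CategoryTheory.Limits CategoryTheory.Abelian AlgebraicGeometry TopologicalSpace Opposite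

noncomputable section

namespace Groth.L22.ExtSh

open Groth.L16.HomSh (homMod homModF post ev secEquiv tensorHomAdj)

variable {X : Scheme.{u}} (F : X.Modules)

/-- The chosen sheaf Hom of the site is the sheaf of compatible families. -/
def homModSiteIso [ModSite.HasSheafHom (O := X.sheaf) F] : ModSite.sheafHom (O := X.sheaf) F ≅ homModF F :=
  ((ModSite.sheafHomAdj (O := X.sheaf) F).ofNatIsoLeft
    ((Groth.L17.ChangeRings.tensorRightBiIso F).symm ≪≫ Groth.L00.Tensor.tensorFlipIso F)).rightAdjointUniq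
      (tensorHomAdj F)

theorem stalkHom_post {N N' : X.Modules} (g : N ⟶ N') (x : X) (θ : (homMod F N).presheaf.stalk x) :
    Groth.L22.PDual.stalkHom F N' x (RefHull.stalkMapₗ (post F g) x θ) =
      (RefHull.stalkMapₗ g x).comp (Groth.L22.PDual.stalkHom F N x θ) := by
  obtain ⟨U, hx, s, rfl⟩ := TopCat.Presheaf.exists_germ_eq (homMod F N).presheaf θ
  refine LinearMap.ext fun v => ?_
  obtain ⟨W, hW, hxW, m, rfl⟩ := Groth.L15.Ref.exists_rep hx v
  rw [LinearMap.comp_apply, RefHull.stalkMapₗ_germ, Groth.L22.PDual.stalkHom_germ F N x hx _ hW,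
    Groth.L22.PDual.stalkHom_germ F N' x hx _ hW, RefHull.stalkMapₗ_germ, Groth.L16.HomSh.ev_post]

theorem bijective_stalkHom [IsLocallyNoetherian X] (hF : Coh.IsCoh F) (N : X.Modules) (x : X) :
    Function.Bijective (Groth.L22.PDual.stalkHom F N x) :=
  (evalStalk_bijective F N hF x).comp
    ((Groth.L21.Mod.isIso_iff_stalk_bijective (inv (Groth.L15.Ref.toHomMod F N))).1 inferInstance x)

instance (x : X) : (stkS x).Additive := inferInstance
instance (x : X) : PreservesFiniteLimits (stkS x) := inferInstance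
instance (x : X) : PreservesFiniteColimits (stkS x) := inferInstance

/-- The map from the stalk of `Hom(F, N)` to homomorphisms of the stalks. -/
def homStkLin (x : X) (N : X.Modules) :
    (stkS x).obj (homMod F N) →ₗ[ModSite.stalkRing (pt x) X.sheaf] ((stkS x).obj F ⟶ (stkS x).obj N) where
  toFun θ := (ModuleCat.restrictScalars (rho x)).map
    (ModuleCat.ofHom (Groth.L22.PDual.stalkHom F N x (show (homMod F N).presheaf.stalk x from θ)) :
      (Groth.L00.Stk.F X x).obj F ⟶ (Groth.L00.Stk.F X x).obj N)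
  map_add' a b := ModuleCat.hom_ext (LinearMap.ext fun v =>
    LinearMap.congr_fun (map_add (Groth.L22.PDual.stalkHom F N x) (show (homMod F N).presheaf.stalk x from a)
      (show (homMod F N).presheaf.stalk x from b)) v)
  map_smul' r a := ModuleCat.hom_ext (LinearMap.ext fun v =>
    LinearMap.congr_fun (map_smul (Groth.L22.PDual.stalkHom F N x) (rho x r)
      (show (homMod F N).presheaf.stalk x from a)) v)

theorem bijective_homStkLin [IsLocallyNoetherian X] (hF : Coh.IsCoh F) (x : X) (N : X.Modules) :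
    Function.Bijective (homStkLin F x N) := by
  refine ⟨fun a b h => (bijective_stalkHom F hF N x).1 (LinearMap.ext fun v => ?_), fun f => ?_⟩
  · exact LinearMap.congr_fun (congrArg ModuleCat.Hom.hom h) v
  · let g : F.presheaf.stalk x →ₗ[X.presheaf.stalk x] N.presheaf.stalk x :=
      { toFun := fun v => f.hom v
        map_add' := fun v w => f.hom.map_add v w
        map_smul' := fun c v => by
          obtain ⟨r, rfl⟩ := (bijective_rho x).2 c
          exact f.hom.map_smul r v }
    obtain ⟨θ, hθ⟩ := (bijective_stalkHom F hF N x).2 g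
    exact ⟨θ, ModuleCat.hom_ext (LinearMap.ext fun v => LinearMap.congr_fun hθ v)⟩

/-- The stalk of `Hom(F, N)` as homomorphisms of the stalks, over the site's local ring. -/
def homStkApp [IsLocallyNoetherian X] (hF : Coh.IsCoh F) (x : X) (N : X.Modules) :
    (stkS x).obj (homMod F N) ≅ ModuleCat.of (ModSite.stalkRing (pt x) X.sheaf) ((stkS x).obj F ⟶ (stkS x).obj N) :=
  (LinearEquiv.ofBijective (homStkLin F x N) (bijective_homStkLin F hF x N)).toModuleIso

/-- The stalk of `Hom(F, -)`, naturally. -/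
def homStkIso [IsLocallyNoetherian X] (hF : Coh.IsCoh F) (x : X) :
    homModF F ⋙ stkS x ≅ stkS x ⋙ linHom (ModSite.stalkRing (pt x) X.sheaf) ((stkS x).obj F) :=
  NatIso.ofComponents (homStkApp F hF x) fun {N N'} g => by
    refine ModuleCat.hom_ext (LinearMap.ext fun θ => ?_)
    refine ModuleCat.hom_ext (LinearMap.ext fun v => ?_)
    exact LinearMap.congr_fun (stalkHom_post F g x θ) v

theorem injective_stkS [IsLocallyNoetherian X] (I : X.Modules) [Injective I] (x : X) :
    Injective ((stkS x).obj I) := by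
  haveI := injective_stk I x
  haveI : (ModuleCat.restrictScalars.{u} (rho x)).IsEquivalence :=
    (ModuleCat.restrictScalarsEquivalenceOfRingEquiv (ringIso x).commRingCatIsoToRingEquiv).isEquivalence_functor
  exact (Equivalence.map_injective_iff (ModuleCat.restrictScalars.{u} (rho x)).asEquivalence _).2 inferInstance

attribute [local instance] HasDerivedCategory.standard

/-- `Ext^i(F, G)_x = Ext^i(F_x, G_x)`. -/
theorem nonempty_stalk_extSh [IsLocallyNoetherian X] (hF : Coh.IsCoh F) (G : X.Modules)
    [ModSite.HasSheafHom (O := X.sheaf) F] [hI : HasInjectiveResolutions (ModSite.Mod X.sheaf)] (x : X) (i : ℕ) :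
    Nonempty ((stkS x).obj ((ModSite.extSh (O := X.sheaf) F i).obj G) ≃ₗ[ModSite.stalkRing (pt x) X.sheaf]
      Ext ((stkS x).obj F) ((stkS x).obj G) i) := by
  let R := ModSite.stalkRing (pt x) X.sheaf
  let L := linHom R ((stkS x).obj F)
  haveI : HasInjectiveResolutions X.Modules := hI
  haveI hA : (stkS x).Additive := inferInstance
  haveI hl : PreservesFiniteLimits (stkS x) := inferInstance
  haveI hr : PreservesFiniteColimits (stkS x) := inferInstance
  haveI : @Functor.Additive (ModSite.Mod X.sheaf) _ _ _ _ _ (stkS x) := hA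
  haveI : @PreservesFiniteLimits (ModSite.Mod X.sheaf) _ _ _ (stkS x) := hl
  haveI : @PreservesFiniteColimits (ModSite.Mod X.sheaf) _ _ _ (stkS x) := hr
  let e₁ : (stkS x).obj ((ModSite.extSh (O := X.sheaf) F i).obj G) ≅ ((stkS x ⋙ L).rightDerived i).obj G :=
    (Groth.L10.SiteCoh.rightDerivedCompIso (ModSite.sheafHom (O := X.sheaf) F) (stkS x) i G).symm ≪≫
      (Groth.L15.ModTensor.rdIso
        (Functor.isoWhiskerRight (homModSiteIso F) (stkS x) ≪≫ homStkIso F hF x) i).app G
  have hac : ∀ Q : X.Modules, Injective Q → ∀ q : ℕ, 0 < q → IsZero ((L.rightDerived q).obj ((stkS x).obj Q)) :=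
    fun Q _ q hq => by
      haveI := injective_stkS Q x
      obtain ⟨q, rfl⟩ := Nat.exists_eq_add_of_lt hq
      rw [zero_add]
      exact L.isZero_rightDerived_obj_injective_succ q _
  have hX : ∀ q : ℕ, 0 < q → IsZero (((stkS x).rightDerived q).obj G) := fun q hq => by
    let I := injectiveResolution G
    refine IsZero.of_iso ?_ (I.isoRightDerivedObj (stkS x) q ≪≫
      ((I.cocomplex.sc q).mapHomologyIso (stkS x)))
    refine (stkS x).map_isZero ?_
    show IsZero (I.cocomplex.homology q)
    rw [← HomologicalComplex.exactAt_iff_isZero_homology]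
    obtain ⟨q, rfl⟩ := Nat.exists_eq_add_of_lt hq
    rw [zero_add]
    exact I.cocomplex_exactAt_succ q
  obtain ⟨e₂⟩ := Groth.L17.GrothSS.nonempty_rightDerived_comp_of_acyclic (stkS x) L hac G hX i
  obtain ⟨e₃⟩ := nonempty_rightDerived_linHom R ((stkS x).obj F) ((stkS x).obj G) i
  exact ⟨(e₁ ≪≫ e₂).toLinearEquiv ≪≫ₗ e₃⟩

/-- The frozen form. -/
theorem nonempty_stalkMod_extSh [IsLocallyNoetherian X] (hF : Coh.IsCoh F) (G : X.Modules)
    [ModSite.HasSheafHom (O := X.sheaf) F] [HasInjectiveResolutions (ModSite.Mod X.sheaf)] (x : X) (i : ℕ) :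
    Nonempty (ModSite.stalkMod (pt x) ((ModSite.extSh (O := X.sheaf) F i).obj G) ≃ₗ[ModSite.stalkRing (pt x) X.sheaf]
      Ext (ModSite.stalkMod (O := X.sheaf) (pt x) F) (ModSite.stalkMod (O := X.sheaf) (pt x) G) i) := by
  let R := ModSite.stalkRing (pt x) X.sheaf
  obtain ⟨a⟩ := nonempty_stalkMod_iso x ((ModSite.extSh (O := X.sheaf) F i).obj G)
  obtain ⟨b⟩ := nonempty_stalkMod_iso x F
  obtain ⟨c⟩ := nonempty_stalkMod_iso x G
  obtain ⟨e⟩ := nonempty_stalk_extSh F hF G x i
  let b' : ModSite.stalkMod (O := X.sheaf) (pt x) F ≅ (stkS x).obj F := b.toModuleIso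
  let c' : (stkS x).obj G ≅ ModSite.stalkMod (O := X.sheaf) (pt x) G := c.symm.toModuleIso
  let φ : Ext ((stkS x).obj F) ((stkS x).obj G) i ≃ₗ[R]
      Ext (ModSite.stalkMod (O := X.sheaf) (pt x) F) (ModSite.stalkMod (O := X.sheaf) (pt x) G) i :=
    { toFun := fun z => (Ext.mk₀ b'.hom).comp (z.comp (Ext.mk₀ c'.hom) (add_zero i)) (zero_add i)
      map_add' := fun z w => by simp
      map_smul' := fun r z => by simp
      invFun := fun z => (Ext.mk₀ b'.inv).comp (z.comp (Ext.mk₀ c'.inv) (add_zero i)) (zero_add i)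
      left_inv := fun z => by simp
      right_inv := fun z => by simp }
  exact ⟨a ≪≫ₗ e ≪≫ₗ φ⟩

end Groth.L22.ExtSh
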